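import Groth.Agent.CechX.EC
import Groth.Agent.CechX.Single
import Groth.Agent.RGammaI.Derived
import Mathlib.Algebra.Homology.DerivedCategory.Basic

/-!
The extended Čech complex as a functorial model of `RΓ_I`, compatible with the map to the identity.
-/

set_option autoImplicit false
set_option linter.style.haveILetI false
set_option backward.isDefEq.respectTransparency false
set_option backward.isDefEq.respectTransparency.types false
universe u

namespace Groth.Agent.RGCompl

open CategoryTheory Limits Groth.Agent.CechX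

attribute [local instance] HasDerivedCategory.standard

variable {A : Type u} [CommRing A]

theorem ecMap_id : ∀ (fs : List A) (K : DRing.Cx A), ecMap (𝟙 K) fs = 𝟙 (EC fs K)
  | [], _ => rfl
  | f :: fs, K => by
    refine HomologicalComplex.hom_ext _ _ fun p => ModuleCat.hom_ext (LinearMap.ext fun z => ?_)
    refine (coconeMap_apply _ _ _ (sub_add_cancel p 1) z).trans ?_
    rw [ecMap_id fs K, CategoryTheory.Functor.map_id]
    exact mk_pr (sub_add_cancel p 1) z

theorem ecMap_comp : ∀ (fs : List A) {K L M : DRing.Cx A} (φ : K ⟶ L) (ψ : L ⟶ M),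
    ecMap (φ ≫ ψ) fs = ecMap φ fs ≫ ecMap ψ fs
  | [], _, _, _, _, _ => rfl
  | f :: fs, K, L, M, φ, ψ => by
    refine HomologicalComplex.hom_ext _ _ fun p => ModuleCat.hom_ext (LinearMap.ext fun z => ?_)
    refine (coconeMap_apply _ _ _ (sub_add_cancel p 1) z).trans ?_
    refine Eq.trans ?_ (coconeMap_apply (ecMap ψ fs) _ (unit_naturality _ _) (sub_add_cancel p 1) _).symm
    rw [ecMap_comp fs φ ψ, Functor.map_comp]
    erw [coconeMap_apply (ecMap φ fs) _ (unit_naturality _ _) (sub_add_cancel p 1) z, pr1_mk, pr2_mk]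
    rfl

/-- `EC` as a functor -/
noncomputable def ecF (fs : List A) : DRing.Cx A ⥤ DRing.Cx A where
  obj := EC fs
  map φ := ecMap φ fs
  map_id := ecMap_id fs
  map_comp := ecMap_comp fs

theorem ecF_inverts (fs : List A) :
    (HomologicalComplex.quasiIso (ModuleCat.{u} A) (ComplexShape.up ℤ)).IsInvertedBy
      (ecF fs ⋙ DerivedCategory.Q) := fun K L f (hf : QuasiIso f) => by
  haveI := hf
  haveI : QuasiIso (ecMap f fs) := quasiIso_of_qIso (qIso_ecMap (QIso.of_quasiIso f) fs)
  exact inferInstanceAs (IsIso (DerivedCategory.Q.map (ecMap f fs)))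

/-- maps which agree in `D(A)` have images which agree -/
theorem ecMap_congr (fs : List A) {K L : DRing.Cx A} {a b : K ⟶ L}
    (h : DerivedCategory.Q.map a = DerivedCategory.Q.map b) :
    DerivedCategory.Q.map (ecMap a fs) = DerivedCategory.Q.map (ecMap b fs) := by
  have n := Localization.fac (ecF fs ⋙ DerivedCategory.Q) (ecF_inverts fs) DerivedCategory.Q
  have ha := n.hom.naturality a
  have hb := n.hom.naturality b
  simp only [Functor.comp_map] at ha hb
  rw [h, hb] at ha
  exact (cancel_epi (n.hom.app K)).1 ha.symm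

/-- the projection -/
noncomputable def ecπ : (fs : List A) → (K : DRing.Cx A) → (EC fs K ⟶ K)
  | [], K => 𝟙 K
  | _ :: fs, K => CochainComplex.mappingCocone.fst _ ≫ ecπ fs K

theorem ecπ_nat : ∀ (fs : List A) {K L : DRing.Cx A} (φ : K ⟶ L), ecMap φ fs ≫ ecπ fs L = ecπ fs K ≫ φ
  | [], _, _, φ => (Category.comp_id φ).trans (Category.id_comp φ).symm
  | f :: fs, K, L, φ => by
    refine HomologicalComplex.hom_ext _ _ fun p => ModuleCat.hom_ext (LinearMap.ext fun z => ?_)
    have h := congrArg (fun k => (k.f p).hom (pr1 _ p z)) (ecπ_nat fs φ)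
    refine Eq.trans ?_ h
    change (ecπ fs L).f p (pr1 _ p ((coconeMap (ecMap φ fs) _ _).f p z)) = _
    rw [coconeMap_apply _ _ _ (sub_add_cancel p 1), pr1_mk]
    rfl

theorem gammaHom_ecπ : ∀ (fs : List A) (K : DRing.Cx A) (p : ℤ) (x : (gam (Ideal.span {a | a ∈ fs}) K).X p),
    (ecπ fs K).f p ((gammaHom K fs).f p x) = gval _ K p x
  | [], _, _, _ => rfl
  | f :: fs, K, p, x => by
    change (ecπ fs K).f p (pr1 _ p ((gammaHom K (f :: fs)).f p x)) = _
    rw [show (gammaHom K (f :: fs)).f p x = CechX.mk _ (p - 1) p (sub_add_cancel p 1)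
      ((gamLE (span_le_span_cons f fs) K ≫ gammaHom K fs).f p x) 0 from toCocone_apply _ _ _ x, pr1_mk]
    exact (gammaHom_ecπ fs K p _).trans (gval_gamLE (span_le_span_cons f fs) p x)

theorem gammaHom_nat : ∀ (fs : List A) {K L : DRing.Cx A} (φ : K ⟶ L) (p : ℤ)
    (x : (gam (Ideal.span {a | a ∈ fs}) K).X p),
    (ecMap φ fs).f p ((gammaHom K fs).f p x) =
      (gammaHom L fs).f p ((RGammaI.gm (Ideal.span {a | a ∈ fs}) φ).f p x)
  | [], _, _, _, _, _ => rfl
  | f :: fs, K, L, φ, p, x => by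
    rw [show (gammaHom K (f :: fs)).f p x = CechX.mk _ (p - 1) p (sub_add_cancel p 1)
      ((gamLE (span_le_span_cons f fs) K ≫ gammaHom K fs).f p x) 0 from toCocone_apply _ _ _ x]
    rw [show (gammaHom L (f :: fs)).f p ((RGammaI.gm (Ideal.span {a | a ∈ f :: fs}) φ).f p x) =
      CechX.mk _ (p - 1) p (sub_add_cancel p 1) ((gamLE (span_le_span_cons f fs) L ≫ gammaHom L fs).f p
        ((RGammaI.gm (Ideal.span {a | a ∈ f :: fs}) φ).f p x)) 0 from toCocone_apply _ _ _ _]
    refine (coconeMap_apply _ _ _ (sub_add_cancel p 1) _).trans ?_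
    rw [pr1_mk, pr2_mk, map_zero]
    exact congrArg (fun y => CechX.mk _ (p - 1) p (sub_add_cancel p 1) y 0) (gammaHom_nat fs φ p _)

variable [IsNoetherianRing A] (fs : List A) [DRing.HasRgammaI (Ideal.span {a | a ∈ fs})]

/-- a resolution -/
noncomputable def resJ (K : DRing.Cx A) : DRing.Cx A := (RGammaI.exists_kinj K).choose

/-- a resolution map -/
noncomputable def resU (K : DRing.Cx A) : K ⟶ resJ K := (RGammaI.exists_kinj K).choose_spec.choose

instance (K : DRing.Cx A) : (resJ K).IsKInjective := (RGammaI.exists_kinj K).choose_spec.choose_spec.1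

instance (K : DRing.Cx A) : QuasiIso (resU K) := (RGammaI.exists_kinj K).choose_spec.choose_spec.2.1

theorem ti_resJ (K : DRing.Cx A) : RGammaI.TI (resJ K) := (RGammaI.exists_kinj K).choose_spec.choose_spec.2.2

instance quasiIso_gammaHom_resJ (K : DRing.Cx A) : QuasiIso (gammaHom (resJ K) fs) :=
  quasiIso_of_qIso (qIso_gammaHom (fun J a p => by
    haveI : Module.Injective A ((resJ K).X p) :=
      Module.injective_module_of_injective_object A _ (inj := ti_resJ K p)
    exact LocH.divModTors_torsionSub (R' := A) J a) fs)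

instance quasiIso_ecMap_resU (K : DRing.Cx A) : QuasiIso (ecMap (resU K) fs) :=
  quasiIso_of_qIso (qIso_ecMap (QIso.of_quasiIso _) fs)

/-- the comparison `RΓ ≅ EC` -/
noncomputable def θ (K : DRing.Cx A) : DerivedCategory.Q.obj (EC fs K) ≅
    (DRing.RgammaI (Ideal.span {a | a ∈ fs})).obj (DerivedCategory.Q.obj K) :=
  haveI := RGammaI.isIso_gα (Ideal.span {a | a ∈ fs}) (ti_resJ K)
  asIso (DerivedCategory.Q.map (ecMap (resU K) fs)) ≪≫
    (asIso (DerivedCategory.Q.map (gammaHom (resJ K) fs))).symm ≪≫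
    ((DerivedCategory.quotientCompQhIso (ModuleCat.{u} A)).app _).symm ≪≫
    asIso (RGammaI.gα (Ideal.span {a | a ∈ fs}) (resJ K)) ≪≫
    (DRing.RgammaI (Ideal.span {a | a ∈ fs})).mapIso
      ((DerivedCategory.quotientCompQhIso (ModuleCat.{u} A)).app (resJ K) ≪≫
        (asIso (DerivedCategory.Q.map (resU K))).symm)

theorem θ_nat {K L : DRing.Cx A} (φ : K ⟶ L) :
    DerivedCategory.Q.map (ecMap φ fs) ≫ (θ fs L).hom =
      (θ fs K).hom ≫ (DRing.RgammaI (Ideal.span {a | a ∈ fs})).map (DerivedCategory.Q.map φ) := by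
  obtain ⟨ψ, hψ⟩ := KInj.Q_map_surjective (I := resJ L)
    (inv (DerivedCategory.Q.map (resU K)) ≫ DerivedCategory.Q.map φ ≫ DerivedCategory.Q.map (resU L))
  have h1 : DerivedCategory.Q.map (φ ≫ resU L) = DerivedCategory.Q.map (resU K ≫ ψ) := by
    rw [Functor.map_comp, Functor.map_comp, hψ, IsIso.hom_inv_id_assoc]
  have h2 := ecMap_congr fs h1
  rw [ecMap_comp, ecMap_comp, Functor.map_comp, Functor.map_comp] at h2
  have h3 : DerivedCategory.Q.map (gammaHom (resJ K) fs) ≫ DerivedCategory.Q.map (ecMap ψ fs) =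
      DerivedCategory.Q.map (RGammaI.gm (Ideal.span {a | a ∈ fs}) ψ) ≫
        DerivedCategory.Q.map (gammaHom (resJ L) fs) := by
    rw [← Functor.map_comp, ← Functor.map_comp]
    exact congrArg _ (HomologicalComplex.hom_ext _ _ fun p =>
      ModuleCat.hom_ext (LinearMap.ext fun x => gammaHom_nat fs ψ p x))
  let q := DerivedCategory.quotientCompQhIso (ModuleCat.{u} A)
  have h4 : q.inv.app (RGammaI.gc (Ideal.span {a | a ∈ fs}) (resJ K)) ≫
      RGammaI.qhm (RGammaI.gm (Ideal.span {a | a ∈ fs}) ψ) =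
      DerivedCategory.Q.map (RGammaI.gm (Ideal.span {a | a ∈ fs}) ψ) ≫
        q.inv.app (RGammaI.gc (Ideal.span {a | a ∈ fs}) (resJ L)) := (q.inv.naturality _).symm
  have h5 : RGammaI.qhm ψ ≫ q.hom.app (resJ L) ≫ inv (DerivedCategory.Q.map (resU L)) =
      q.hom.app (resJ K) ≫ inv (DerivedCategory.Q.map (resU K)) ≫ DerivedCategory.Q.map φ := by
    have hn : RGammaI.qhm ψ ≫ q.hom.app (resJ L) = q.hom.app (resJ K) ≫ DerivedCategory.Q.map ψ :=
      q.hom.naturality ψ
    rw [reassoc_of% hn, hψ]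
    simp
  simp only [θ, Iso.trans_hom, Iso.symm_hom, Functor.mapIso_hom, asIso_hom, asIso_inv, Iso.app_inv, Iso.app_hom,
    Category.assoc]
  rw [reassoc_of% h2]
  congr 1
  rw [IsIso.eq_inv_comp, ← Category.assoc, h3]
  erw [Category.assoc, IsIso.hom_inv_id_assoc, ← reassoc_of% h4, reassoc_of% RGammaI.gα_natural,
    ← Functor.map_comp, ← Functor.map_comp]
  refine congrArg (fun t => q.inv.app _ ≫ RGammaI.gα _ (resJ K) ≫ t) (congrArg _ ?_)
  rw [Category.assoc]
  exact h5

theorem θ_ε (K : DRing.Cx A) :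
    (θ fs K).hom ≫ (DRing.RgammaIε (Ideal.span {a | a ∈ fs})).app (DerivedCategory.Q.obj K) =
      DerivedCategory.Q.map (ecπ fs K) := by
  let q := DerivedCategory.quotientCompQhIso (ModuleCat.{u} A)
  have hn := (DRing.RgammaIε (Ideal.span {a | a ∈ fs})).naturality
    (q.hom.app (resJ K) ≫ inv (DerivedCategory.Q.map (resU K)))
  simp only [Functor.id_map] at hn
  simp only [θ, Iso.trans_hom, Iso.symm_hom, Functor.mapIso_hom, asIso_hom, asIso_inv, Iso.app_inv, Iso.app_hom,
    Category.assoc]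
  erw [hn, reassoc_of% RGammaI.gα_ε]
  have h1 : q.inv.app (RGammaI.gc (Ideal.span {a | a ∈ fs}) (resJ K)) ≫
      RGammaI.qhm (RGammaI.gι (Ideal.span {a | a ∈ fs}) (resJ K)) ≫ q.hom.app (resJ K) =
      DerivedCategory.Q.map (RGammaI.gι (Ideal.span {a | a ∈ fs}) (resJ K)) := by
    have h : RGammaI.qhm (RGammaI.gι (Ideal.span {a | a ∈ fs}) (resJ K)) ≫ q.hom.app (resJ K) =
        q.hom.app _ ≫ DerivedCategory.Q.map (RGammaI.gι (Ideal.span {a | a ∈ fs}) (resJ K)) :=
      q.hom.naturality _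
    exact (congrArg (q.inv.app _ ≫ ·) h).trans (Iso.inv_hom_id_app_assoc q _ _)
  have h2 : RGammaI.gι (Ideal.span {a | a ∈ fs}) (resJ K) = gammaHom (resJ K) fs ≫ ecπ fs (resJ K) :=
    HomologicalComplex.hom_ext _ _ fun p => ModuleCat.hom_ext (LinearMap.ext fun x => (gammaHom_ecπ fs _ p x).symm)
  erw [reassoc_of% h1, h2, Functor.map_comp, Category.assoc, IsIso.inv_hom_id_assoc, ← Category.assoc,
    ← Functor.map_comp, ecπ_nat, Functor.map_comp, Category.assoc, IsIso.hom_inv_id, Category.comp_id]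

end Groth.Agent.RGCompl
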