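import Groth.Agent.RGCompl.Completion
import Groth.Agent.CechX.BaseChange
import Groth.Agent.DRingKP.TorMore

/-!
Derived base change of `RΓ_I` of the ring, without flatness.
-/

set_option autoImplicit false
set_option linter.style.haveILetI false
set_option backward.isDefEq.respectTransparency false
set_option backward.isDefEq.respectTransparency.types false
universe u

namespace Groth.Agent.RGCompl

open CategoryTheory Limits Groth.Agent.CechX TensorProduct

attribute [local instance] HasDerivedCategory.standard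

variable {R : Type u} [CommRing R]

theorem flat_EC : ∀ (fs : List R) (K : DRing.Cx R), DRing.TermwiseFlat K → DRing.TermwiseFlat (EC fs K)
  | [], _, h => h
  | f :: fs, K, h => fun p => by
    let φ := DerCA.locCxUnit (Submonoid.powers f) (EC fs K)
    change Module.Flat R ((CochainComplex.mappingCocone φ).X p)
    let S := Submonoid.powers f
    haveI : Module.Flat R ((EC fs K).X (p - 1)) := flat_EC fs K h (p - 1)
    haveI : Module.Flat R (Localization S) := IsLocalization.flat (Localization S) S
    haveI hL : Module.Flat R (((DerCA.locCx S).obj (EC fs K)).X (p - 1)) :=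
      Module.Flat.of_linearEquiv ((LocalizedModule.equivTensorProduct S ((EC fs K).X (p - 1))).restrictScalars R)
    let e : ↑((CochainComplex.mappingCocone φ).X p) ≃ₗ[R]
        ↑((EC fs K).X p) × ↑(((DerCA.locCx S).obj (EC fs K)).X (p - 1)) :=
      { toFun := fun z => (pr1 φ p z, pr2 φ (p - 1) p (sub_add_cancel p 1) z)
        map_add' := fun x y => Prod.ext (map_add _ x y) (map_add _ x y)
        map_smul' := fun a x => Prod.ext (map_smul _ a x) (map_smul _ a x)
        invFun := fun w => CechX.mk φ (p - 1) p (sub_add_cancel p 1) w.1 w.2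
        left_inv := fun z => mk_pr _ z
        right_inv := fun w => Prod.ext (pr1_mk _ _ _) (pr2_mk _ _ _) }
    haveI := DRingKP.flat_biprod (flat_EC fs K h p) hL
    exact Module.Flat.of_linearEquiv (e.trans (ModuleCat.biprodIsoProd _ _).toLinearEquiv.symm)

variable (R' : Type u) [CommRing R'] [Algebra R R']

theorem nonempty_bc_EC (fs : List R) :
    Nonempty (((RGammaI.ext₀ R R').mapHomologicalComplex (ComplexShape.up ℤ)).obj (EC fs (single0 (ModuleCat.of R R))) ≅
      EC (fs.map (algebraMap R R')) (single0 (ModuleCat.of R' R'))) := by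
  obtain ⟨b⟩ := nonempty_single_bcEq (R' := R') (ModuleCat.of R R)
  let c := b.ec fs
  let e1 : ((RGammaI.ext₀ R R').mapHomologicalComplex (ComplexShape.up ℤ)).obj (EC fs (single0 (ModuleCat.of R R))) ≅
      EC (fs.map (algebraMap R R')) (single0 (ModuleCat.of R' (R' ⊗[R] R))) :=
    HomologicalComplex.Hom.isoOfComponents (fun p => ((RGammaI.extEquiv.{u} (A := R) (B := R') _).trans (c.e p)).toModuleIso)
      fun p q (hpq : p + 1 = q) => ModuleCat.hom_ext (LinearMap.ext fun x => by
        change ((EC (fs.map (algebraMap R R')) (single0 (ModuleCat.of R' (R' ⊗[R] R)))).d p q)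
            (c.e p (RGammaI.extEquiv.{u} (A := R) (B := R') _ x)) =
          c.e q (RGammaI.extEquiv.{u} (A := R) (B := R') _ ((RGammaI.ext₀ R R').map ((EC fs (single0 (ModuleCat.of R R))).d p q) x))
        rw [RGammaI.extEquiv_map, ← c.comm p q hpq])
  exact ⟨e1 ≪≫ (ecF (fs.map (algebraMap R R'))).mapIso
    ((HomologicalComplex.single (ModuleCat.{u} R') (ComplexShape.up ℤ) 0).mapIso
      (TensorProduct.AlgebraTensorModule.rid R R' R').toModuleIso)⟩

variable [IsNoetherianRing R] [IsNoetherianRing R']

theorem nonempty_LBaseChange_RΓ [DRing.HasLBaseChange (algebraMap R R')] (fs : List R)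
    [DRing.HasRgammaI (Ideal.span {a | a ∈ fs})]
    [DRing.HasRgammaI (Ideal.span {a | a ∈ fs.map (algebraMap R R')})] :
    Nonempty ((DRing.LBaseChange (algebraMap R R')).obj ((DRing.RgammaI (Ideal.span {a | a ∈ fs})).obj (Dual.inD R R)) ≅
      (DRing.RgammaI (Ideal.span {a | a ∈ fs.map (algebraMap R R')})).obj (Dual.inD R' R')) := by
  let C := EC fs (single0 (ModuleCat.of R R))
  have hC : DRing.VanishesAbove C fs.length := fun i hi => by
    haveI : Subsingleton (C.X i) := subsingleton_of_forall_eq 0 fun x =>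
      EC_single_eq_zero (ModuleCat.of R R) fs i (Or.inr hi) x
    exact ModuleCat.isZero_of_subsingleton _
  have hCf : DRing.TermwiseFlat C := flat_EC fs _ fun p => by
    by_cases hp : p = 0
    · subst hp
      exact Module.Flat.of_linearEquiv
        (HomologicalComplex.singleObjXSelf (ComplexShape.up ℤ) 0 (ModuleCat.of R R)).toLinearEquiv
    · haveI : Subsingleton ((single0 (ModuleCat.of R R)).X p) := ModuleCat.subsingleton_of_isZero
        (HomologicalComplex.isZero_single_obj_X (ComplexShape.up ℤ) 0 (ModuleCat.of R R) p hp)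
      exact inferInstance
  have hab : ∃ n, DRingKP.IsAbove n (DerivedCategory.Q.obj C) := ⟨(fs.length : ℤ) + 1, fun i hi =>
    ((HomologicalComplex.exactAt_iff_isZero_homology _ _).1
      (ShortComplex.exact_of_isZero_X₂ _ (hC i (by lia)))).of_iso
        ((DerivedCategory.homologyFunctorFactors (ModuleCat.{u} R) i).app C)⟩
  obtain ⟨P, b, hb, hP, ⟨e⟩⟩ := DRingKP.exists_proj_rep_le (DerivedCategory.Q.obj C) hab
  haveI := DRingKP.isKProjective_of_vanishesAbove hb hP
  obtain ⟨g, hg⟩ := PerfLocal.exists_lift e.hom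
  haveI : IsIso (DerivedCategory.Q.map g) := by rw [hg]; infer_instance
  haveI : QuasiIso g := (DerivedCategory.isIso_Q_map_iff_quasiIso _ g).1 inferInstance
  haveI : QuasiIso ((DRingKP.bc (algebraMap R R')).map g) :=
    DRingKP.quasiIso_bc (algebraMap R R') g hb hC (DRingKP.flat_of_projective hP) hCf
  obtain ⟨eb⟩ := nonempty_bc_EC R' fs
  exact ⟨(DRing.LBaseChange (algebraMap R R')).mapIso ((eRΓ fs (ModuleCat.of R R)).symm ≪≫ e.symm) ≪≫
    DRingKP.lBaseChangeIso (algebraMap R R') P ≪≫
    asIso (DerivedCategory.Q.map ((DRingKP.bc (algebraMap R R')).map g)) ≪≫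
    DerivedCategory.Q.mapIso eb ≪≫ eRΓ (fs.map (algebraMap R R')) (ModuleCat.of R' R')⟩

/-- ideals with the same torsion have the same `RΓ` -/
theorem nonempty_RΓ_congr {I K : Ideal R} [DRing.HasRgammaI I] [DRing.HasRgammaI K]
    (h : ∀ M : ModuleCat.{u} R, DRing.torsionSub I M = DRing.torsionSub K M) (X : Dual.D R) :
    Nonempty ((DRing.RgammaI I).obj X ≅ (DRing.RgammaI K).obj X) := by
  obtain ⟨J, hJ, -, ⟨e⟩⟩ := RGammaI.exists_rep X
  haveI := RGammaI.isIso_gα_kinj I J
  haveI := RGammaI.isIso_gα_kinj K J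
  let c : RGammaI.gc I J ≅ RGammaI.gc K J :=
    HomologicalComplex.Hom.isoOfComponents (fun i => (LinearEquiv.ofEq _ _ (h (J.X i))).toModuleIso) fun _ _ _ => rfl
  exact ⟨(DRing.RgammaI I).mapIso e.symm ≪≫ (asIso (RGammaI.gα I J)).symm ≪≫
    DerivedCategory.Qh.mapIso ((HomotopyCategory.quotient _ _).mapIso c) ≪≫ asIso (RGammaI.gα K J) ≪≫
    (DRing.RgammaI K).mapIso e⟩

end Groth.Agent.RGCompl
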