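import Groth.Agent.RGCompl.ECQuot

/-!
The derived completion of `RΓ` of a finite module.
-/

set_option autoImplicit false
set_option linter.style.haveILetI false
set_option backward.isDefEq.respectTransparency false
set_option backward.isDefEq.respectTransparency.types false
universe u

namespace Groth.Agent.RGCompl

open CategoryTheory Limits Pretriangulated Groth.Agent.CechX

attribute [local instance] HasDerivedCategory.standard

variable {A : Type u} [CommRing A]

/-- derived limits transport along isomorphisms -/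
lemma isRlim_transport {K K' : ℕ → Dual.D A} {t : ∀ n, K (n + 1) ⟶ K n} {t' : ∀ n, K' (n + 1) ⟶ K' n}
    [HasProduct K] [HasProduct K'] (e : ∀ n, K n ≅ K' n) (he : ∀ n, (e (n + 1)).hom ≫ t' n = t n ≫ (e n).hom)
    {L L' : Dual.D A} (eL : L ≅ L') (h : DCoh.IsRlim K t L) : DCoh.IsRlim K' t' L' := by
  obtain ⟨a, c, hT⟩ := h
  let P : ∏ᶜ K ≅ ∏ᶜ K' :=
    { hom := Limits.Pi.map fun n => (e n).hom
      inv := Limits.Pi.map fun n => (e n).inv }
  refine ⟨eL.inv ≫ a ≫ P.hom, P.inv ≫ c ≫ eL.hom⟦(1 : ℤ)⟧', isomorphic_distinguished _ hT _ ?_⟩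
  refine Triangle.isoMk _ _ eL.symm P.symm P.symm ?_ ?_ ?_
  · simp
  · simp only [Triangle.mk_mor₂, Iso.symm_hom]
    rw [Iso.comp_inv_eq, Category.assoc]
    refine (Iso.eq_inv_comp P).2 (Pi.hom_ext _ _ fun n => ?_)
    simp [P, Preadditive.comp_sub, Preadditive.sub_comp, he n]
  · simp [← Functor.map_comp]

variable [IsNoetherianRing A] (fs : List A) [DRing.HasRgammaI (Ideal.span {a | a ∈ fs})]

/-- the Čech model of `RΓ` of a module -/
noncomputable def eRΓ (N : ModuleCat.{u} A) : DerivedCategory.Q.obj (EC fs (single0 N)) ≅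
    (DRing.RgammaI (Ideal.span {a | a ∈ fs})).obj ((DerivedCategory.singleFunctor (ModuleCat.{u} A) 0).obj N) :=
  θ fs (single0 N) ≪≫ (DRing.RgammaI (Ideal.span {a | a ∈ fs})).mapIso
    ((DerivedCategory.singleFunctorIsoCompQ (ModuleCat.{u} A) 0).app N).symm

theorem eRΓ_nat {N N' : ModuleCat.{u} A} (g : N ⟶ N') :
    DerivedCategory.Q.map (ecMap ((HomologicalComplex.single (ModuleCat.{u} A) (ComplexShape.up ℤ) 0).map g) fs) ≫
      (eRΓ fs N').hom = (eRΓ fs N).hom ≫ (DRing.RgammaI (Ideal.span {a | a ∈ fs})).map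
        ((DerivedCategory.singleFunctor (ModuleCat.{u} A) 0).map g) := by
  simp only [eRΓ, Iso.trans_hom, Functor.mapIso_hom, Category.assoc]
  rw [reassoc_of% θ_nat]
  congr 1
  rw [← Functor.map_comp, ← Functor.map_comp]
  exact congrArg _ ((DerivedCategory.singleFunctorIsoCompQ (ModuleCat.{u} A) 0).inv.naturality g)

theorem eRΓ_ε (N : ModuleCat.{u} A) :
    (eRΓ fs N).hom ≫ (DRing.RgammaIε (Ideal.span {a | a ∈ fs})).app
        ((DerivedCategory.singleFunctor (ModuleCat.{u} A) 0).obj N) =
      DerivedCategory.Q.map (ecπ fs (single0 N)) ≫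
        (DerivedCategory.singleFunctorIsoCompQ (ModuleCat.{u} A) 0).inv.app N := by
  have h := (DRing.RgammaIε (Ideal.span {a | a ∈ fs})).naturality
    ((DerivedCategory.singleFunctorIsoCompQ (ModuleCat.{u} A) 0).inv.app N)
  simp only [Functor.id_map] at h
  simp only [eRΓ, Iso.trans_hom, Functor.mapIso_hom, Category.assoc, Iso.symm_hom, Iso.app_inv]
  erw [h, reassoc_of% θ_ε]

variable (I : Ideal A) [DRing.HasDerivedCompletion I] (M : ModuleCat.{u} A) [Module.Finite A M]

/-- the completed Čech complex computes the derived completion -/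
theorem exists_model : ∃ v : DerivedCategory.Q.obj ((cmpCx I).obj (EC fs (single0 M))) ≅
      ((DRing.derivedCompletion I).obj ((DRing.RgammaI (Ideal.span {a | a ∈ fs})).obj
        ((DerivedCategory.singleFunctor (ModuleCat.{u} A) 0).obj M))).obj,
    (eRΓ fs M).inv ≫ DerivedCategory.Q.map (cι I (EC fs (single0 M))) ≫ v.hom =
      DRing.toDerivedCompletion I _ := by
  obtain ⟨v, hv⟩ := DRingKP.exists_iso_completion I
    ((eRΓ fs M).inv ≫ DerivedCategory.Q.map (cι I (EC fs (single0 M))))
    (isDerivedComplete_cmpCx I (IsNoetherian.noetherian I) _) fun E hE => by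
      simp only [Category.assoc]
      exact ((UnivI.of_isIso (eRΓ fs M).inv) E hE).comp (uni_EC I fs M E hE)
  exact ⟨v, by rw [← Category.assoc]; exact hv⟩

theorem isRlim_model [∀ K : ℕ → Dual.D A, HasProduct K] :
    DCoh.IsRlim (fun n : ℕ => (DRing.RgammaI (Ideal.span {a | a ∈ fs})).obj
        ((DerivedCategory.singleFunctor (ModuleCat.{u} A) 0).obj ((quotF I n).obj M)))
      (fun n : ℕ => (DRing.RgammaI (Ideal.span {a | a ∈ fs})).map
        ((DerivedCategory.singleFunctor (ModuleCat.{u} A) 0).map ((trans I n).app M)))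
      ((DRing.derivedCompletion I).obj ((DRing.RgammaI (Ideal.span {a | a ∈ fs})).obj
        ((DerivedCategory.singleFunctor (ModuleCat.{u} A) 0).obj M))).obj := by
  obtain ⟨v, -⟩ := exists_model fs I M
  refine isRlim_transport (fun n => DerivedCategory.Q.mapIso (redIso I fs M n) ≪≫ eRΓ fs _) (fun n => ?_) v
    (isRlim_cmp I (EC fs (single0 M)))
  simp only [Iso.trans_hom, Functor.mapIso_hom, Category.assoc]
  rw [← eRΓ_nat, ← Functor.map_comp_assoc, redIso_trans, Functor.map_comp_assoc]

theorem subsingleton_HD_completion_of_neg (i : ℤ) (hi : i < 0) :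
    Subsingleton (Dual.HD A ((DRing.derivedCompletion I).obj ((DRing.RgammaI (Ideal.span {a | a ∈ fs})).obj
        ((DerivedCategory.singleFunctor (ModuleCat.{u} A) 0).obj M))).obj i) := by
  obtain ⟨v, -⟩ := exists_model fs I M
  let C := (cmpCx I).obj (EC fs (single0 M))
  have hz : IsZero (C.homology i) := by
    refine (HomologicalComplex.exactAt_iff_isZero_homology _ _).1 (ShortComplex.exact_of_isZero_X₂ _ ?_)
    refine (cmp I).map_isZero ?_
    haveI : Subsingleton ((EC fs (single0 M)).X i) :=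
      subsingleton_of_forall_eq 0 fun x => EC_single_eq_zero M fs i (Or.inl hi) x
    exact ModuleCat.isZero_of_subsingleton _
  let e := ((DerivedCategory.homologyFunctor (ModuleCat.{u} A) i).mapIso v).symm ≪≫
    (DerivedCategory.homologyFunctorFactors (ModuleCat.{u} A) i).app C
  exact @Equiv.subsingleton _ _ e.toLinearEquiv.toEquiv (ModuleCat.subsingleton_of_isZero hz)

end Groth.Agent.RGCompl
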