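import Groth.Agent.DRingKP.DCompl
import Groth.Agent.HDU.Milnor
import Groth.Prelude.Def_DCoh2
import Mathlib.RingTheory.AdicCompletion.Functoriality

/-!
Termwise adic completion of a complex is the derived limit of its termwise reductions.
-/

set_option autoImplicit false
set_option linter.style.haveILetI false
set_option backward.isDefEq.respectTransparency false
set_option backward.isDefEq.respectTransparency.types false
universe u

namespace Groth.Agent.RGCompl

open CategoryTheory Limits Pretriangulated

attribute [local instance] HasDerivedCategory.standard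

variable {A : Type u} [CommRing A] (I : Ideal A)

/-- `N ↦ N/I^n N` -/
noncomputable def quotF (n : ℕ) : ModuleCat.{u} A ⥤ ModuleCat.{u} A where
  obj N := ModuleCat.of A (N ⧸ (I ^ n • ⊤ : Submodule A N))
  map {N N'} g := ModuleCat.ofHom (Submodule.mapQ _ _ g.hom (Submodule.smul_top_le_comap_smul_top (I ^ n) g.hom))
  map_id N := by
    refine ModuleCat.hom_ext (LinearMap.ext fun y => ?_)
    obtain ⟨x, rfl⟩ := Submodule.Quotient.mk_surjective _ y
    rfl
  map_comp g g' := by
    refine ModuleCat.hom_ext (LinearMap.ext fun y => ?_)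
    obtain ⟨x, rfl⟩ := Submodule.Quotient.mk_surjective _ y
    rfl

instance additive_quotF (n : ℕ) : (quotF I n).Additive where
  map_add {N N' g g'} := by
    refine ModuleCat.hom_ext (LinearMap.ext fun y => ?_)
    obtain ⟨x, rfl⟩ := Submodule.Quotient.mk_surjective _ y
    rfl

/-- the transition maps -/
noncomputable def trans (n : ℕ) : quotF I (n + 1) ⟶ quotF I n where
  app N := ModuleCat.ofHom (Submodule.mapQ (I ^ (n + 1) • ⊤ : Submodule A N) (I ^ n • ⊤ : Submodule A N)
    LinearMap.id (Submodule.smul_mono (Ideal.pow_le_pow_right (Nat.le_succ n)) le_rfl))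
  naturality N N' g := by
    refine ModuleCat.hom_ext (LinearMap.ext fun y => ?_)
    obtain ⟨x, rfl⟩ := Submodule.Quotient.mk_surjective _ y
    rfl

/-- `N ↦ N^` -/
noncomputable def cmp : ModuleCat.{u} A ⥤ ModuleCat.{u} A where
  obj N := ModuleCat.of A (AdicCompletion I N)
  map g := ModuleCat.ofHom ((AdicCompletion.map I g.hom).restrictScalars A)
  map_id N := by
    refine ModuleCat.hom_ext (LinearMap.ext fun x => ?_)
    exact LinearMap.congr_fun (AdicCompletion.map_id (M := N) I) x
  map_comp g g' := by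
    refine ModuleCat.hom_ext (LinearMap.ext fun x => ?_)
    exact (AdicCompletion.map_comp_apply I g.hom g'.hom x).symm

lemma cmp_map_val {N N' : ModuleCat.{u} A} (g : N ⟶ N') (x : AdicCompletion I N) (n : ℕ) :
    ((cmp I).map g x : AdicCompletion I N').1 n = (quotF I n).map g (x.1 n) := by
  change ((AdicCompletion.map I g.hom) x).1 n = _
  rw [AdicCompletion.map_val_apply]
  obtain ⟨y, hy⟩ := Submodule.Quotient.mk_surjective _ (x.1 n)
  rw [← hy]
  rfl

instance additive_cmp : (cmp I).Additive where
  map_add {_ N' g g'} := by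
    refine ModuleCat.hom_ext (LinearMap.ext fun x => ?_)
    refine AdicCompletion.ext fun n => ?_
    refine (cmp_map_val I (g + g') x n).trans ?_
    change _ = ((cmp I).map g x : AdicCompletion I N').1 n + ((cmp I).map g' x : AdicCompletion I N').1 n
    rw [cmp_map_val, cmp_map_val, Functor.map_add]
    rfl

/-- `N → N^` -/
noncomputable def cη : 𝟭 (ModuleCat.{u} A) ⟶ cmp I where
  app N := ModuleCat.ofHom (AdicCompletion.of I N)
  naturality N N' g := by
    refine ModuleCat.hom_ext (LinearMap.ext fun x => ?_)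
    exact (AdicCompletion.map_of I g.hom x).symm

/-- `N^ → N/I^n N` -/
noncomputable def cev (n : ℕ) : cmp I ⟶ quotF I n where
  app N := ModuleCat.ofHom (AdicCompletion.eval I N n)
  naturality N N' g := ModuleCat.hom_ext (LinearMap.ext fun x => cmp_map_val I g x n)

/-- `N ↦ ∏ N/I^n N` -/
noncomputable def piQ : ModuleCat.{u} A ⥤ ModuleCat.{u} A where
  obj N := ModuleCat.of A (∀ n, (quotF I n).obj N)
  map g := ModuleCat.ofHom (LinearMap.pi fun n => ((quotF I n).map g).hom ∘ₗ LinearMap.proj n)
  map_id N := by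
    refine ModuleCat.hom_ext (LinearMap.ext fun x => funext fun n => ?_)
    exact LinearMap.congr_fun (congrArg ModuleCat.Hom.hom ((quotF I n).map_id N)) (x n)
  map_comp g g' := by
    refine ModuleCat.hom_ext (LinearMap.ext fun x => funext fun n => ?_)
    exact LinearMap.congr_fun (congrArg ModuleCat.Hom.hom ((quotF I n).map_comp g g')) (x n)

instance additive_piQ : (piQ I).Additive where
  map_add {_ _ g g'} := by
    refine ModuleCat.hom_ext (LinearMap.ext fun x => funext fun n => ?_)
    change (quotF I n).map (g + g') (x n) = (quotF I n).map g (x n) + (quotF I n).map g' (x n)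
    rw [Functor.map_add]
    rfl

/-- the projections -/
noncomputable def projQ (n : ℕ) : piQ I ⟶ quotF I n where
  app N := ModuleCat.ofHom (LinearMap.proj n)

/-- `N^ → ∏ N/I^n N` -/
noncomputable def jQ : cmp I ⟶ piQ I where
  app N := ModuleCat.ofHom (LinearMap.pi fun n => AdicCompletion.eval I N n)
  naturality N N' g := ModuleCat.hom_ext (LinearMap.ext fun x => funext fun n => cmp_map_val I g x n)

/-- `1 - shift` -/
noncomputable def shiftQ : piQ I ⟶ piQ I where
  app N := ModuleCat.ofHom (LinearMap.pi fun n : ℕ =>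
    LinearMap.proj (φ := fun m : ℕ => (quotF I m).obj N) n -
      ((trans I n).app N).hom ∘ₗ LinearMap.proj (φ := fun m : ℕ => (quotF I m).obj N) (n + 1))
  naturality N N' g := by
    refine ModuleCat.hom_ext (LinearMap.ext fun x => funext fun n => ?_)
    change (quotF I n).map g (x n) - (trans I n).app N' ((quotF I (n + 1)).map g (x (n + 1))) =
      (quotF I n).map g (x n - (trans I n).app N (x (n + 1)))
    rw [map_sub]
    congr 1
    exact LinearMap.congr_fun (congrArg ModuleCat.Hom.hom ((trans I n).naturality g)) (x (n + 1))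

lemma shiftQ_apply (N : ModuleCat.{u} A) (y : ∀ m, (quotF I m).obj N) (n : ℕ) :
    ((shiftQ I).app N y : ∀ m, (quotF I m).obj N) n = y n - (trans I n).app N (y (n + 1)) := rfl

lemma trans_mk (n : ℕ) (N : ModuleCat.{u} A) (x : N) :
    (trans I n).app N (Submodule.Quotient.mk x) = Submodule.Quotient.mk x := rfl

lemma trans_eq_transitionMap (n : ℕ) (N : ModuleCat.{u} A) (y : (quotF I (n + 1)).obj N) :
    (trans I n).app N y = AdicCompletion.transitionMap I N (Nat.le_succ n) y := by
  obtain ⟨x, rfl⟩ := Submodule.Quotient.mk_surjective _ y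
  rfl

lemma jQ_injective (N : ModuleCat.{u} A) : Function.Injective ((jQ I).app N) :=
  fun _ _ h => AdicCompletion.ext fun n => congrFun h n

lemma jQ_shiftQ (N : ModuleCat.{u} A) (x : (cmp I).obj N) :
    (shiftQ I).app N ((jQ I).app N x) = 0 := funext fun n => by
  refine (shiftQ_apply I N _ n).trans (sub_eq_zero.2 ?_)
  change (x : AdicCompletion I N).1 n = (trans I n).app N ((x : AdicCompletion I N).1 (n + 1))
  rw [trans_eq_transitionMap]
  exact ((x : AdicCompletion I N).2 (Nat.le_succ n)).symm

lemma exact_jQ_shiftQ (N : ModuleCat.{u} A) (y : (piQ I).obj N) (h : (shiftQ I).app N y = 0) :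
    ∃ x, (jQ I).app N x = y := by
  have hy : ∀ n, AdicCompletion.transitionMap I N (Nat.le_succ n) (y (n + 1)) = y n := fun n => by
    rw [← trans_eq_transitionMap]
    exact (sub_eq_zero.1 ((shiftQ_apply I N y n).symm.trans (congrFun h n))).symm
  refine ⟨(⟨y, ?_⟩ : AdicCompletion I N), rfl⟩
  intro m n hmn
  induction hmn with
  | refl =>
    obtain ⟨x, hx⟩ := Submodule.Quotient.mk_surjective _ (y m)
    rw [← hx]
    rfl
  | @step k h ih =>
    refine Eq.trans ?_ ((congrArg (AdicCompletion.transitionMap I N h) (hy k)).trans ih)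
    obtain ⟨x, hx⟩ := Submodule.Quotient.mk_surjective _ (y (k + 1))
    change AdicCompletion.transitionMap I N _ (y (k + 1)) = _
    rw [← hx]
    rfl

lemma shiftQ_surjective (N : ModuleCat.{u} A) : Function.Surjective ((shiftQ I).app N) := by
  intro z
  have key : ∀ n (x : (quotF I n).obj N), ∃ y : (quotF I (n + 1)).obj N, x - (trans I n).app N y = z n := by
    intro n x
    obtain ⟨w, hw⟩ := Submodule.Quotient.mk_surjective _ (x - z n)
    exact ⟨Submodule.Quotient.mk w, by rw [trans_mk, hw, sub_sub_cancel]⟩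
  choose f hf using key
  let r : ∀ n, (quotF I n).obj N := fun n => Nat.rec (motive := fun k => (quotF I k).obj N) 0 (fun k x => f k x) n
  exact ⟨r, funext fun n => (shiftQ_apply I N r n).trans (hf n (r n))⟩

/-- the termwise completion -/
noncomputable abbrev cmpCx : DRing.Cx A ⥤ DRing.Cx A := (cmp I).mapHomologicalComplex (ComplexShape.up ℤ)

/-- the termwise reduction -/
noncomputable abbrev quotCx (n : ℕ) : DRing.Cx A ⥤ DRing.Cx A :=
  (quotF I n).mapHomologicalComplex (ComplexShape.up ℤ)

/-- termwise natural maps -/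
noncomputable abbrev natCx {F G : ModuleCat.{u} A ⥤ ModuleCat.{u} A} [F.Additive] [G.Additive] (α : F ⟶ G)
    (C : DRing.Cx A) :
    (F.mapHomologicalComplex (ComplexShape.up ℤ)).obj C ⟶ (G.mapHomologicalComplex (ComplexShape.up ℤ)).obj C :=
  (NatTrans.mapHomologicalComplex α (ComplexShape.up ℤ)).app C

/-- `C → C^` -/
noncomputable def cι (C : DRing.Cx A) : C ⟶ (cmpCx I).obj C where
  f i := (cη I).app (C.X i)
  comm' i j _ := ((cη I).naturality (C.d i j)).symm

lemma cι_natural {C D : DRing.Cx A} (g : C ⟶ D) : g ≫ cι I D = cι I C ≫ (cmpCx I).map g :=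
  HomologicalComplex.hom_ext _ _ fun i => (cη I).naturality (g.f i)

/-- the complex of products -/
noncomputable abbrev prodCx (C : DRing.Cx A) : DRing.Cx A :=
  ((piQ I).mapHomologicalComplex (ComplexShape.up ℤ)).obj C

/-- the completion sequence -/
noncomputable def limSeq (C : DRing.Cx A) : ShortComplex (DRing.Cx A) :=
  ShortComplex.mk (natCx (jQ I) C) (natCx (shiftQ I) C)
    (HomologicalComplex.hom_ext _ _ fun i => ModuleCat.hom_ext (LinearMap.ext fun x => jQ_shiftQ I (C.X i) x))

lemma limSeq_shortExact (C : DRing.Cx A) : (limSeq I C).ShortExact :=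
  HomologicalComplex.shortExact_of_degreewise_shortExact _ fun i =>
    { exact := (ShortComplex.moduleCat_exact_iff _).2 fun y hy => exact_jQ_shiftQ I (C.X i) y hy
      mono_f := (ModuleCat.mono_iff_injective _).2 (jQ_injective I (C.X i))
      epi_g := (ModuleCat.epi_iff_surjective _).2 (shiftQ_surjective I (C.X i)) }

/-- the projection fan in `D(A)` -/
noncomputable def qFan (C : DRing.Cx A) : Fan (fun n : ℕ => DerivedCategory.Q.obj ((quotCx I n).obj C)) :=
  Fan.mk (DerivedCategory.Q.obj (prodCx I C)) fun n => DerivedCategory.Q.map (natCx (projQ I n) C)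

lemma prod_ext (C : DRing.Cx A) {X : Dual.D A} (g : X ⟶ DerivedCategory.Q.obj (prodCx I C))
    (h : ∀ n, g ≫ DerivedCategory.Q.map (natCx (projQ I n) C) = 0) : g = 0 := by
  obtain ⟨P, c, hP, hc⟩ := DRingKP.exists_kProj_resolution (DerivedCategory.Q.objPreimage X)
  let eP : DerivedCategory.Q.obj P ≅ X :=
    asIso (DerivedCategory.Q.map c) ≪≫ DerivedCategory.Q.objObjPreimageIso X
  obtain ⟨φ, hφ⟩ := PerfLocal.exists_lift (eP.hom ≫ g)
  let hh := fun n => (DRingKP.exists_homotopy (φ ≫ natCx (projQ I n) C)
    (by rw [Functor.map_comp, hφ, Category.assoc, h n, comp_zero])).some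
  let ho : Homotopy φ 0 :=
    { hom := fun i j => ModuleCat.ofHom (LinearMap.pi fun n => ((hh n).hom i j).hom)
      zero := fun i j hij => ModuleCat.hom_ext (LinearMap.ext fun y => funext fun n =>
        LinearMap.congr_fun (congrArg ModuleCat.Hom.hom ((hh n).zero i j hij)) y)
      comm := fun i => ModuleCat.hom_ext (LinearMap.ext fun y => funext fun n => by
        have := LinearMap.congr_fun (congrArg ModuleCat.Hom.hom ((hh n).comm i)) y
        rw [dNext_eq _ (show (ComplexShape.up ℤ).Rel i (i + 1) from rfl),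
          prevD_eq _ (show (ComplexShape.up ℤ).Rel (i - 1) i by simp)] at this ⊢
        exact this) }
  have h0 : DerivedCategory.Q.map φ = 0 := by
    rw [DerivedCategory.Q_map_eq_of_homotopy _ ho, Functor.map_zero]
  rw [← cancel_epi eP.hom, comp_zero, ← hφ, h0]

lemma prod_lift (C : DRing.Cx A) {X : Dual.D A}
    (x : ∀ n, X ⟶ DerivedCategory.Q.obj ((quotCx I n).obj C)) :
    ∃ g : X ⟶ DerivedCategory.Q.obj (prodCx I C), ∀ n, g ≫ DerivedCategory.Q.map (natCx (projQ I n) C) = x n := by
  obtain ⟨P, c, hP, hc⟩ := DRingKP.exists_kProj_resolution (DerivedCategory.Q.objPreimage X)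
  let eP : DerivedCategory.Q.obj P ≅ X :=
    asIso (DerivedCategory.Q.map c) ≪≫ DerivedCategory.Q.objObjPreimageIso X
  choose φ hφ using fun n => PerfLocal.exists_lift (eP.hom ≫ x n)
  let Φ : P ⟶ prodCx I C :=
    { f := fun i => ModuleCat.ofHom (LinearMap.pi fun n => ((φ n).f i).hom)
      comm' := fun i j _ => ModuleCat.hom_ext (LinearMap.ext fun y => funext fun n =>
        LinearMap.congr_fun (congrArg ModuleCat.Hom.hom ((φ n).comm i j)) y) }
  refine ⟨eP.inv ≫ DerivedCategory.Q.map Φ, fun n => ?_⟩
  rw [Category.assoc, ← Functor.map_comp, show Φ ≫ natCx (projQ I n) C = φ n from rfl, hφ, Iso.inv_hom_id_assoc]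

/-- the termwise product is the product in `D(A)` -/
noncomputable def isLimit_qFan (C : DRing.Cx A) : IsLimit (qFan I C) :=
  Fan.IsLimit.mk _ (fun s => (prod_lift I C s.proj).choose) (fun s n => (prod_lift I C s.proj).choose_spec n)
    fun s m hm => sub_eq_zero.1 (prod_ext I C _ fun n => by
      rw [Preadditive.sub_comp, sub_eq_zero, (prod_lift I C s.proj).choose_spec n]
      exact hm n)

/-- the termwise completion is the derived limit of the termwise reductions -/
theorem isRlim_cmp (C : DRing.Cx A) [HasProduct fun n : ℕ => DerivedCategory.Q.obj ((quotCx I n).obj C)] :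
    DCoh.IsRlim (fun n : ℕ => DerivedCategory.Q.obj ((quotCx I n).obj C))
      (fun n : ℕ => DerivedCategory.Q.map (natCx (trans I n) C)) (DerivedCategory.Q.obj ((cmpCx I).obj C)) := by
  let e : DerivedCategory.Q.obj (prodCx I C) ≅ ∏ᶜ fun n : ℕ => DerivedCategory.Q.obj ((quotCx I n).obj C) :=
    (isLimit_qFan I C).conePointUniqueUpToIso (productIsProduct _)
  have he : ∀ n, e.hom ≫ Pi.π _ n = DerivedCategory.Q.map (natCx (projQ I n) C) := fun n =>
    (isLimit_qFan I C).conePointUniqueUpToIso_hom_comp (productIsProduct _) ⟨n⟩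
  refine ⟨DerivedCategory.Q.map (natCx (jQ I) C) ≫ e.hom,
    e.inv ≫ DerivedCategory.triangleOfSESδ (limSeq_shortExact I C), ?_⟩
  refine isomorphic_distinguished _ (DerivedCategory.triangleOfSES_distinguished (limSeq_shortExact I C)) _ ?_
  refine Triangle.isoMk _ _ (Iso.refl _) e.symm e.symm ?_ ?_ ?_
  · simp [DerivedCategory.triangleOfSES, limSeq]
  · simp only [DerivedCategory.triangleOfSES, limSeq, Triangle.mk_mor₂, Iso.symm_hom]
    rw [Iso.comp_inv_eq, Category.assoc]
    refine (Iso.eq_inv_comp e).2 (Pi.hom_ext _ _ fun n => ?_)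
    rw [Category.assoc, Category.assoc, Pi.lift_π, he, Preadditive.comp_sub, he, ← Category.assoc, he,
      ← Functor.map_comp, ← Functor.map_comp, ← Functor.map_sub]
    exact congrArg _ (HomologicalComplex.hom_ext _ _ fun i =>
      ModuleCat.hom_ext (LinearMap.ext fun y => (shiftQ_apply I (C.X i) y n).symm))
  · simp [DerivedCategory.triangleOfSES]

end Groth.Agent.RGCompl
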