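import Groth.Agent.RGCompl.CompFun
import Groth.Agent.RGammaI.Change
import Groth.Agent.RGammaI.GM
import Groth.Agent.DRingKP.DCFinite
import Groth.Agent.DRingKP.Pseudo
import Groth.Prelude.Def_DerCA

/-!
Termwise completion is derived completion for bounded complexes of modules finite over Noetherian algebras.
-/

set_option autoImplicit false
set_option linter.style.haveILetI false
set_option backward.isDefEq.respectTransparency false
set_option backward.isDefEq.respectTransparency.types false
universe u

namespace Groth.Agent.RGCompl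

open CategoryTheory Limits Pretriangulated

attribute [local instance] HasDerivedCategory.standard

variable {A : Type u} [CommRing A] (I : Ideal A)

/-- precomposition with `u` is bijective on complete objects -/
def UnivI {X Y : Dual.D A} (u : X ⟶ Y) : Prop :=
  ∀ E : Dual.D A, DRing.IsDerivedComplete I E → Function.Bijective (fun φ : Y ⟶ E => u ≫ φ)

variable {I}

lemma UnivI.of_isIso {X Y : Dual.D A} (u : X ⟶ Y) [IsIso u] : UnivI I u := fun _ _ =>
  ⟨fun a b h => (cancel_epi u).1 h, fun g => ⟨inv u ≫ g, IsIso.hom_inv_id_assoc u g⟩⟩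

lemma UnivI.shift {X Y : Dual.D A} {u : X ⟶ Y} (h : UnivI I u) : UnivI I (u⟦(1 : ℤ)⟧') := fun _ hE =>
  DRingKP.bijective_precomp_shift u (h _ (RGammaI.complete_shift hE (-1)))

lemma UnivI.shift_neg {X Y : Dual.D A} {u : X ⟶ Y} (h : UnivI I u) : UnivI I (u⟦(-1 : ℤ)⟧') := by
  intro E hE
  let adj := (shiftEquiv' (Dual.D A) (-1 : ℤ) 1 (by lia)).toAdjunction
  have e : (fun φ : Y⟦(-1 : ℤ)⟧ ⟶ E => u⟦(-1 : ℤ)⟧' ≫ φ) =
      (adj.homEquiv X E).symm ∘ (fun φ : Y ⟶ E⟦(1 : ℤ)⟧ => u ≫ φ) ∘ adj.homEquiv Y E := by
    funext φ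
    refine (adj.homEquiv X E).injective ?_
    simp only [Function.comp_apply, Equiv.apply_symm_apply]
    exact adj.homEquiv_naturality_left _ _
  rw [e]
  exact (adj.homEquiv X E).symm.bijective.comp
    ((h _ (RGammaI.complete_shift hE 1)).comp (adj.homEquiv Y E).bijective)

lemma UnivI.of_arrow {X Y X' Y' : Dual.D A} {u : X ⟶ Y} {u' : X' ⟶ Y'} (e : X' ≅ X) (e' : Y' ≅ Y)
    (w : u' ≫ e'.hom = e.hom ≫ u) (h : UnivI I u) : UnivI I u' := by
  intro E hE
  have he : (fun φ : Y' ⟶ E => u' ≫ φ) =
      (fun x : X ⟶ E => e.hom ≫ x) ∘ (fun φ : Y ⟶ E => u ≫ φ) ∘ (fun φ : Y' ⟶ E => e'.inv ≫ φ) := by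
    funext φ
    simp only [Function.comp_apply, ← Category.assoc, ← w]
    rw [Category.assoc u', e'.hom_inv_id, Category.comp_id]
  rw [he]
  exact (UnivI.of_isIso e.hom _ hE).comp ((h E hE).comp (UnivI.of_isIso e'.inv _ hE))

/-- the five lemma for universal maps -/
lemma UnivI.middle {T T' : Triangle (Dual.D A)} (hT : T ∈ distTriang (Dual.D A)) (hT' : T' ∈ distTriang (Dual.D A))
    (φ : T ⟶ T') (h₁ : UnivI I φ.hom₁) (h₃ : UnivI I φ.hom₃) : UnivI I φ.hom₂ := by
  intro E hE
  have inj : ∀ a : T'.obj₂ ⟶ E, φ.hom₂ ≫ a = 0 → a = 0 := by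
    intro a ha
    have h0 : T'.mor₁ ≫ a = 0 := (h₁ E hE).1 (by
      change φ.hom₁ ≫ T'.mor₁ ≫ a = φ.hom₁ ≫ 0
      rw [← φ.comm₁_assoc, ha, comp_zero, comp_zero])
    obtain ⟨b, hb⟩ := Triangle.yoneda_exact₂ T' hT' a h0
    obtain ⟨c, hc⟩ := Triangle.yoneda_exact₃ T hT (φ.hom₃ ≫ b) (by
      rw [← Category.assoc, φ.comm₂, Category.assoc, ← hb, ha])
    obtain ⟨c', hc'⟩ := ((UnivI.shift h₁) E hE).2 c
    have hb' : b = T'.mor₃ ≫ c' := (h₃ E hE).1 (by
      change φ.hom₃ ≫ b = φ.hom₃ ≫ T'.mor₃ ≫ c'
      rw [← φ.comm₃_assoc, hc, ← hc'])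
    rw [hb, hb', ← Category.assoc, comp_distTriang_mor_zero₂₃ _ hT', zero_comp]
  refine ⟨fun a b h => sub_eq_zero.1 (inj _ ?_), fun v => ?_⟩
  · rw [Preadditive.comp_sub]
    exact sub_eq_zero.2 h
  · obtain ⟨w, hw⟩ := (h₁ E hE).2 (T.mor₁ ≫ v)
    change φ.hom₁ ≫ w = T.mor₁ ≫ v at hw
    let ψ := (Pretriangulated.invRotate (Dual.D A)).map φ
    have hw0 : T'.invRotate.mor₁ ≫ w = 0 := ((UnivI.shift_neg h₃) E hE).1 (by
      change ψ.hom₁ ≫ T'.invRotate.mor₁ ≫ w = ψ.hom₁ ≫ 0
      rw [comp_zero, ← Category.assoc, show ψ.hom₁ ≫ T'.invRotate.mor₁ = T.invRotate.mor₁ ≫ φ.hom₁ from ψ.comm₁.symm,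
        Category.assoc, hw, ← Category.assoc]
      have := comp_distTriang_mor_zero₁₂ _ (inv_rot_of_distTriang _ hT)
      exact (congrArg (· ≫ v) this).trans zero_comp)
    obtain ⟨v', hv'⟩ : ∃ v' : T'.obj₂ ⟶ E, w = T'.mor₁ ≫ v' :=
      Triangle.yoneda_exact₂ _ (inv_rot_of_distTriang _ hT') w hw0
    obtain ⟨b, hb⟩ := Triangle.yoneda_exact₂ T hT (v - φ.hom₂ ≫ v') (by
      rw [Preadditive.comp_sub, φ.comm₁_assoc, ← hv', hw, sub_self])
    obtain ⟨b', hb'⟩ := (h₃ E hE).2 b
    change φ.hom₃ ≫ b' = b at hb'
    refine ⟨v' + T'.mor₂ ≫ b', ?_⟩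
    change φ.hom₂ ≫ (v' + T'.mor₂ ≫ b') = v
    rw [Preadditive.comp_add, ← φ.comm₂_assoc, hb', ← hb]
    abel

lemma UnivI.noHom {X Y Z : Dual.D A} {u : X ⟶ Y} {g : Y ⟶ Z} {δ : Z ⟶ X⟦(1 : ℤ)⟧}
    (hT : Triangle.mk u g δ ∈ distTriang (Dual.D A)) (h : UnivI I u) : RGammaI.NoHom I Z :=
  fun E hE => subsingleton_of_forall_eq 0 fun v => by
    have h0 : g ≫ v = 0 := (h E hE).1 (by
      change u ≫ g ≫ v = u ≫ 0
      rw [comp_zero, ← Category.assoc, show u ≫ g = 0 from comp_distTriang_mor_zero₁₂ _ hT, zero_comp])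
    obtain ⟨w, hw⟩ := Triangle.yoneda_exact₃ _ hT v h0
    obtain ⟨w', hw'⟩ := ((UnivI.shift h) E hE).2 w
    rw [hw, ← hw', ← Category.assoc]
    exact (congrArg (· ≫ w') (comp_distTriang_mor_zero₃₁ _ hT)).trans zero_comp

variable (I)

/-- the termwise completion is complete -/
lemma isDerivedComplete_cmpCx (hI : I.FG) (C : DRing.Cx A) :
    DRing.IsDerivedComplete I (DerivedCategory.Q.obj ((cmpCx I).obj C)) := by
  obtain ⟨s, hs⟩ := hI
  have hs' : Ideal.span {x | x ∈ s.toList} = I := by simpa using hs
  refine (DRingKP.isDerivedComplete_span_iff _ I hs' _).2 fun f hf n => ?_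
  have hfI : f ∈ I := hs' ▸ Ideal.subset_span hf
  let D := (cmpCx I).obj C
  haveI : ∀ i, IsIso (((NatTrans.mapHomologicalComplex (DRingKP.teleNat f) (ComplexShape.up ℤ)).app D).f i) := fun i => by
    haveI : IsAdicComplete I (AdicCompletion I (C.X i)) := AdicCompletion.isAdicComplete ⟨s, hs⟩
    exact (ConcreteCategory.isIso_iff_bijective _).2
      (DRingKP.TBij.of_isAdicComplete (M := AdicCompletion I (C.X i)) I hfI)
  haveI : IsIso ((NatTrans.mapHomologicalComplex (DRingKP.teleNat f) (ComplexShape.up ℤ)).app D) :=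
    HomologicalComplex.Hom.isIso_of_components _
  have h : IsIso (HomologicalComplex.homologyMap
      ((NatTrans.mapHomologicalComplex (DRingKP.teleNat f) (ComplexShape.up ℤ)).app D) n) := inferInstance
  change IsIso (ShortComplex.homologyMap ((D.sc n).mapNatTrans (DRingKP.teleNat f))) at h
  rw [ShortComplex.homologyMap_mapNatTrans, isIso_comp_left_iff, isIso_comp_right_iff] at h
  exact DRingKP.TBij.of_equiv ((ConcreteCategory.isIso_iff_bijective _).1 h)
    ((DerivedCategory.homologyFunctorFactors (ModuleCat.{u} A) n).app D).symm.toLinearEquiv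

/-- `cι` is universal -/
def Uni (C : DRing.Cx A) : Prop := UnivI I (DerivedCategory.Q.map (cι I C))

variable {I}

lemma Uni.of_iso {C D : DRing.Cx A} (e : C ≅ D) (h : Uni I D) : Uni I C :=
  UnivI.of_arrow (DerivedCategory.Q.mapIso e) (DerivedCategory.Q.mapIso ((cmpCx I).mapIso e))
    (by simp only [Functor.mapIso_hom, ← Functor.map_comp]; rw [cι_natural]) h

lemma Uni.of_zero {C : DRing.Cx A} (h : ∀ i, IsZero (C.X i)) : Uni I C := by
  haveI : ∀ i, IsIso ((cι I C).f i) := fun i =>
    ⟨0, (h i).eq_of_src _ _, ((cmp I).map_isZero (h i)).eq_of_src _ _⟩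
  haveI := HomologicalComplex.Hom.isIso_of_components (cι I C)
  exact UnivI.of_isIso _

lemma Uni.middle {S : ShortComplex (DRing.Cx A)}
    (hs : ∀ i, Nonempty (S.map (HomologicalComplex.eval (ModuleCat.{u} A) (ComplexShape.up ℤ) i)).Splitting)
    (h₁ : Uni I S.X₁) (h₃ : Uni I S.X₃) : Uni I S.X₂ := by
  have hS : S.ShortExact := HomologicalComplex.shortExact_of_degreewise_shortExact _ fun i =>
    (hs i).some.shortExact
  have hS' : (S.map (cmpCx I)).ShortExact := HomologicalComplex.shortExact_of_degreewise_shortExact _ fun i =>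
    ((hs i).some.map (cmp I)).shortExact
  let τ : S ⟶ S.map (cmpCx I) :=
    { τ₁ := cι I S.X₁
      τ₂ := cι I S.X₂
      τ₃ := cι I S.X₃
      comm₁₂ := (cι_natural I S.f).symm
      comm₂₃ := (cι_natural I S.g).symm }
  exact UnivI.middle (DerivedCategory.triangleOfSES_distinguished hS)
    (DerivedCategory.triangleOfSES_distinguished hS') (DerivedCategory.triangleOfSES.map hS hS' τ) h₁ h₃

/-- concentrated in one degree -/
def Conc (C : DRing.Cx A) (n : ℤ) : Prop := ∀ i, i ≠ n → IsZero (C.X i)

/-- complexes concentrated in one degree -/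
noncomputable def concIso {C D : DRing.Cx A} {n : ℤ} (hC : Conc C n) (hD : Conc D n) (e : C.X n ≅ D.X n) :
    C ≅ D :=
  HomologicalComplex.Hom.isoOfComponents
    (fun i => if h : i = n then (C.XIsoOfEq h) ≪≫ e ≪≫ (D.XIsoOfEq h).symm else (hC i h).iso (hD i h))
    (fun i j (hij : i + 1 = j) => by
      by_cases h : i = n
      · exact (hD j (by lia)).eq_of_tgt _ _
      · exact (hC i h).eq_of_src _ _)

lemma concIso_hom_f {C D : DRing.Cx A} {n : ℤ} (hC : Conc C n) (hD : Conc D n) (e : C.X n ≅ D.X n) :
    (concIso hC hD e).hom.f n = e.hom := by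
  simp [concIso]

lemma conc_hom_ext {C D : DRing.Cx A} {n : ℤ} (hC : Conc C n) {f g : C ⟶ D} (h : f.f n = g.f n) : f = g :=
  HomologicalComplex.hom_ext _ _ fun i => by
    by_cases hi : i = n
    · subst hi; exact h
    · exact (hC i hi).eq_of_src _ _

lemma conc_single (N : ModuleCat.{u} A) (n : ℤ) :
    Conc ((HomologicalComplex.single (ModuleCat.{u} A) (ComplexShape.up ℤ) n).obj N) n := fun i hi =>
  HomologicalComplex.isZero_single_obj_X (ComplexShape.up ℤ) n N i hi

lemma conc_map {B : Type u} [CommRing B] (F : ModuleCat.{u} B ⥤ ModuleCat.{u} A) [F.Additive] (C : DRing.Cx B)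
    (n : ℤ) (hC : ∀ i, i ≠ n → IsZero (C.X i)) :
    Conc ((F.mapHomologicalComplex (ComplexShape.up ℤ)).obj C) n := fun i hi => F.map_isZero (hC i hi)

section Base

variable (I) [IsNoetherianRing A] (B : Type u) [CommRing B] [Algebra A B] [IsNoetherianRing B]

/-- the completions over `A` and over `B` -/
noncomputable def complEquiv (N : Type u) [AddCommGroup N] [Module A N] [Module B N] [IsScalarTower A B N] :
    AdicCompletion (I.map (algebraMap A B)) N ≃ₗ[A] AdicCompletion I N :=
  have h : ∀ n : ℕ, ((I.map (algebraMap A B)) ^ n • ⊤ : Submodule B N).restrictScalars A =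
      (I ^ n • ⊤ : Submodule A N) := fun n => by
    rw [← Ideal.map_pow, Ideal.smul_restrictScalars, Submodule.restrictScalars_top]
  let e : ∀ n : ℕ, (N ⧸ ((I.map (algebraMap A B)) ^ n • ⊤ : Submodule B N)) ≃ₗ[A] N ⧸ (I ^ n • ⊤ : Submodule A N) :=
    fun n => (Submodule.Quotient.restrictScalarsEquiv A _).symm ≪≫ₗ Submodule.quotEquivOfEq _ _ (h n)
  have he : ∀ {m n : ℕ} (hmn : m ≤ n) (y : N ⧸ ((I.map (algebraMap A B)) ^ n • ⊤ : Submodule B N)),
      AdicCompletion.transitionMap I N hmn (e n y) =
        e m (AdicCompletion.transitionMap (I.map (algebraMap A B)) N hmn y) := fun {m n} hmn y => by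
    obtain ⟨x, rfl⟩ := Submodule.Quotient.mk_surjective _ y
    rfl
  { toFun := fun x => ⟨fun n => e n (x.1 n), fun {m n} hmn => by rw [he, x.2 hmn]⟩
    map_add' := fun x y => AdicCompletion.ext fun n => (e n).map_add _ _
    map_smul' := fun a x => AdicCompletion.ext fun n => (e n).map_smul a _
    invFun := fun y => ⟨fun n => (e n).symm (y.1 n), fun {m n} hmn => (e m).injective (by
      rw [← he, LinearEquiv.apply_symm_apply, LinearEquiv.apply_symm_apply]; exact y.2 hmn)⟩
    left_inv := fun x => AdicCompletion.ext fun n => (e n).symm_apply_apply _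
    right_inv := fun y => AdicCompletion.ext fun n => (e n).apply_symm_apply _ }

lemma complEquiv_of (N : Type u) [AddCommGroup N] [Module A N] [Module B N] [IsScalarTower A B N] (x : N) :
    complEquiv I B N (AdicCompletion.of (I.map (algebraMap A B)) N x) = AdicCompletion.of I N x :=
  AdicCompletion.ext fun _ => rfl

/-- restriction of the completion -/
noncomputable def resHatEquiv (N : ModuleCat.{u} B) [Module.Finite B N] :
    (ModuleCat.restrictScalars.{u} (algebraMap A B)).obj ((DRingKP.hatF (I.map (algebraMap A B))).obj N) ≅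
      (cmp I).obj ((ModuleCat.restrictScalars.{u} (algebraMap A B)).obj N) :=
  letI : Module A N := Module.compHom N (algebraMap A B)
  haveI : IsScalarTower A B N := IsScalarTower.of_algebraMap_smul fun _ _ => rfl
  LinearEquiv.toModuleIso
    (X₁ := (ModuleCat.restrictScalars.{u} (algebraMap A B)).obj ((DRingKP.hatF (I.map (algebraMap A B))).obj N))
    (X₂ := (cmp I).obj ((ModuleCat.restrictScalars.{u} (algebraMap A B)).obj N))
    { toFun := fun x => complEquiv I B N (DRingKP.hatEquiv (I.map (algebraMap A B)) N x)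
      map_add' := fun x y => by rw [map_add, map_add]
      map_smul' := fun a x => by
        have h1 := (DRingKP.hatEquiv (I.map (algebraMap A B)) N).map_smul (algebraMap A B a) x
        refine ((congrArg (complEquiv I B N) h1).trans ?_)
        rw [algebraMap_smul]
        exact (complEquiv I B N).map_smul a (DRingKP.hatEquiv (I.map (algebraMap A B)) N x)
      invFun := fun y => (DRingKP.hatEquiv (I.map (algebraMap A B)) N).symm ((complEquiv I B N).symm y)
      left_inv := fun x => by simp
      right_inv := fun y => by simp }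

lemma resHatEquiv_hatη (N : ModuleCat.{u} B) [Module.Finite B N] :
    (ModuleCat.restrictScalars.{u} (algebraMap A B)).map ((DRingKP.hatη (I.map (algebraMap A B))).app N) ≫
      (resHatEquiv I B N).hom = (cη I).app ((ModuleCat.restrictScalars.{u} (algebraMap A B)).obj N) := by
  refine ModuleCat.hom_ext (LinearMap.ext fun x => ?_)
  letI : Module A N := Module.compHom N (algebraMap A B)
  haveI : IsScalarTower A B N := IsScalarTower.of_algebraMap_smul fun _ _ => rfl
  exact (congrArg (complEquiv I B N) (DRingKP.hatEquiv_hatη _ N x)).trans (complEquiv_of I B N x)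

/-- the base case -/
theorem uni_base (N : ModuleCat.{u} B) [Module.Finite B N] (n : ℤ) :
    Uni I ((DRing.restrictCx (algebraMap A B)).obj
      ((HomologicalComplex.single (ModuleCat.{u} B) (ComplexShape.up ℤ) n).obj N)) := by
  let J := I.map (algebraMap A B)
  let CB := (HomologicalComplex.single (ModuleCat.{u} B) (ComplexShape.up ℤ) n).obj N
  obtain ⟨s, hs⟩ := IsNoetherian.noetherian J
  have hs' : Ideal.span {x | x ∈ s.toList} = J := by simpa using hs
  have hfin : ∀ i, Module.Finite B (CB.homology i) := fun i => by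
    by_cases hi : i = n
    · subst hi
      exact Module.Finite.equiv
        (HomologicalComplex.singleObjHomologySelfIso (ComplexShape.up ℤ) i N).toLinearEquiv.symm
    · haveI : Subsingleton (CB.homology i) := ModuleCat.subsingleton_of_isZero
        ((HomologicalComplex.exactAt_single_obj (ComplexShape.up ℤ) n N i hi).isZero_homology)
      infer_instance
  have hU : UnivI J (DerivedCategory.Q.map (DRingKP.hatι J CB)) := fun E hE =>
    DRingKP.univ_hatι J s.toList CB ⊥ hfin (fun r hr i x => by rw [(Submodule.mem_bot B).1 hr, zero_smul])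
      (by rw [bot_sup_eq, hs']; exact Ideal.le_radical) E
      ((DRingKP.isDerivedComplete_span_iff _ J hs' E).1 hE)
  have hN := hU.noHom (DerivedCategory.mappingCone_triangle_distinguished (DRingKP.hatι J CB))
  haveI := RGammaI.hasRgammaI (A := A) I
  haveI := RGammaI.hasRgammaI (A := B) J
  have hZ := RGammaI.isZero_RΓ_of_noHom J hN
  let g := (DRing.restrictCx (algebraMap A B)).map (DRingKP.hatι J CB)
  let eC : (DRing.restrictD (algebraMap A B)).obj (DerivedCategory.Q.obj (CochainComplex.mappingCone (DRingKP.hatι J CB))) ≅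
      DerivedCategory.Q.obj (CochainComplex.mappingCone g) :=
    (ModuleCat.restrictScalars.{u} (algebraMap A B)).mapDerivedCategoryFactors.app _ ≪≫
      DerivedCategory.Q.mapIso (CochainComplex.mappingCone.mapHomologicalComplexIso (DRingKP.hatι J CB)
        (ModuleCat.restrictScalars.{u} (algebraMap A B)))
  have hA : IsZero ((DRing.RgammaI I).obj
      ((DRing.restrictD (algebraMap A B)).obj (DerivedCategory.Q.obj (CochainComplex.mappingCone (DRingKP.hatι J CB))))) := by
    refine RGammaI.isZero_of_HD fun q => ?_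
    obtain ⟨e⟩ := RGammaI.nonempty_HDI_restrict (B := B) I
      (DerivedCategory.Q.obj (CochainComplex.mappingCone (DRingKP.hatι J CB))) q
    obtain ⟨eA⟩ := RGammaI.nonempty_HD_equiv I ((DRing.restrictD (algebraMap A B)).obj
      (DerivedCategory.Q.obj (CochainComplex.mappingCone (DRingKP.hatι J CB)))) q
    obtain ⟨eB⟩ := RGammaI.nonempty_HD_equiv J
      (DerivedCategory.Q.obj (CochainComplex.mappingCone (DRingKP.hatι J CB))) q
    haveI : Subsingleton (Dual.HD B ((DRing.RgammaI J).obj
        (DerivedCategory.Q.obj (CochainComplex.mappingCone (DRingKP.hatι J CB)))) q) :=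
      ModuleCat.subsingleton_of_isZero ((DerivedCategory.homologyFunctor (ModuleCat.{u} B) q).map_isZero hZ)
    haveI := eB.symm.toEquiv.subsingleton
    haveI : Subsingleton ((ModuleCat.restrictScalars (algebraMap A B)).obj (Dual2.HDI B J
        (DerivedCategory.Q.obj (CochainComplex.mappingCone (DRingKP.hatι J CB))) q)) :=
      inferInstanceAs (Subsingleton (Dual2.HDI B J
        (DerivedCategory.Q.obj (CochainComplex.mappingCone (DRingKP.hatι J CB))) q))
    haveI := e.toLinearEquiv.toEquiv.subsingleton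
    haveI := eA.toEquiv.subsingleton
    exact ModuleCat.isZero_of_subsingleton _
  have hg : UnivI I (DerivedCategory.Q.map g) := fun E hE =>
    RGammaI.bijective_of_noHom I (DerivedCategory.mappingCone_triangle_distinguished g)
      ((RGammaI.noHom_of_isZero_RΓ I hA).of_iso eC) hE
  have hc : Conc ((DRing.restrictCx (algebraMap A B)).obj CB) n :=
    conc_map _ CB n fun i hi => HomologicalComplex.isZero_single_obj_X (ComplexShape.up ℤ) n N i hi
  haveI : Module.Finite B (CB.X n) :=
    Module.Finite.equiv (HomologicalComplex.singleObjXSelf (ComplexShape.up ℤ) n N).toLinearEquiv.symm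
  have hc' : Conc ((DRing.restrictCx (algebraMap A B)).obj (DRingKP.hatCx J CB)) n :=
    conc_map _ _ n fun i hi => (DRingKP.hatF J).map_isZero
      (HomologicalComplex.isZero_single_obj_X (ComplexShape.up ℤ) n N i hi)
  refine UnivI.of_arrow (Iso.refl _) (DerivedCategory.Q.mapIso (concIso hc' (conc_map (cmp I) _ n hc)
    (resHatEquiv I B (CB.X n)))).symm ?_ hg
  rw [Iso.symm_hom, Iso.comp_inv_eq, Iso.refl_hom, Category.id_comp, Functor.mapIso_hom, ← Functor.map_comp]
  refine congrArg _ (conc_hom_ext hc ?_)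
  rw [HomologicalComplex.comp_f, concIso_hom_f]
  exact (resHatEquiv_hatη I B (CB.X n)).symm

end Base

/-- modules built from finite modules over Noetherian algebras -/
inductive Good : ModuleCat.{u} A → Prop
  | base {N : ModuleCat.{u} A} (B : Type u) [CommRing B] [Algebra A B] [IsNoetherianRing B]
      (N' : ModuleCat.{u} B) [Module.Finite B N']
      (e : (ModuleCat.restrictScalars.{u} (algebraMap A B)).obj N' ≅ N) : Good N
  | split {S : ShortComplex (ModuleCat.{u} A)} (σ : S.Splitting) : Good S.X₁ → Good S.X₃ → Good S.X₂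

lemma Good.of_iso {N N' : ModuleCat.{u} A} (e : N ≅ N') (h : Good N) : Good N' := by
  induction h generalizing N' with
  | base B M e' => exact .base B M (e' ≪≫ e)
  | @split S σ h₁ h₃ _ _ =>
    exact Good.split (S := ShortComplex.mk (S.f ≫ e.hom) (e.inv ≫ S.g) (by simp))
      { r := e.inv ≫ σ.r
        s := σ.s ≫ e.hom
        f_r := by simp
        s_g := by simp
        id := by
          change (e.inv ≫ σ.r) ≫ S.f ≫ e.hom + (e.inv ≫ S.g) ≫ σ.s ≫ e.hom = 𝟙 N'
          simp only [Category.assoc, ← Preadditive.comp_add]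
          rw [← Category.assoc σ.r, ← Category.assoc S.g, ← Preadditive.add_comp, σ.id]
          simp }
      h₁ h₃

variable [IsNoetherianRing A]

lemma good_finite (M : ModuleCat.{u} A) [Module.Finite A M] : Good M :=
  .base A M (LinearEquiv.toModuleIso (X₁ := (ModuleCat.restrictScalars.{u} (algebraMap A A)).obj M) (X₂ := M)
    { toFun := fun x => x, invFun := fun x => x, map_add' := fun _ _ => rfl, map_smul' := fun _ _ => rfl
      left_inv := fun _ => rfl, right_inv := fun _ => rfl })

lemma good_zero {N : ModuleCat.{u} A} (h : IsZero N) : Good N :=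
  haveI := ModuleCat.subsingleton_of_isZero h
  good_finite N

/-- complexes concentrated in one degree -/
theorem uni_conc {N : ModuleCat.{u} A} (hN : Good N) (C : DRing.Cx A) (n : ℤ) (hC : Conc C n) (e : C.X n ≅ N) :
    Uni I C := by
  induction hN generalizing C with
  | base B M e' =>
    exact (uni_base I B M n).of_iso (concIso hC
      (conc_map (ModuleCat.restrictScalars.{u} (algebraMap A B)) _ n fun i hi =>
        HomologicalComplex.isZero_single_obj_X (ComplexShape.up ℤ) n M i hi)
      (e ≪≫ e'.symm ≪≫ ((ModuleCat.restrictScalars.{u} (algebraMap A B)).mapIso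
        (HomologicalComplex.singleObjXSelf (ComplexShape.up ℤ) n M)).symm))
  | @split S σ _ _ ih₁ ih₃ =>
    let F := HomologicalComplex.single (ModuleCat.{u} A) (ComplexShape.up ℤ) n
    have hm : Uni I (S.map F).X₂ := Uni.middle (S := S.map F)
      (fun i => ⟨σ.map (F ⋙ HomologicalComplex.eval (ModuleCat.{u} A) (ComplexShape.up ℤ) i)⟩)
      (ih₁ _ (conc_single _ n) (HomologicalComplex.singleObjXSelf (ComplexShape.up ℤ) n _))
      (ih₃ _ (conc_single _ n) (HomologicalComplex.singleObjXSelf (ComplexShape.up ℤ) n _))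
    exact hm.of_iso (concIso hC (conc_single _ n)
      (e ≪≫ (HomologicalComplex.singleObjXSelf (ComplexShape.up ℤ) n _).symm))

/-- bounded complexes with good terms -/
theorem uni_bounded : ∀ (k : ℕ) (a : ℤ) (C : DRing.Cx A), (∀ i, i < a ∨ a + k ≤ i → IsZero (C.X i)) →
    (∀ i, Good (C.X i)) → Uni I C := by
  intro k
  induction k with
  | zero => exact fun a C h _ => Uni.of_zero fun i => h i (by push_cast; lia)
  | succ k ih =>
    intro a C h hg
    have hσ := DRingKP.σSeq_shortExact C (a + 1)
    have key : ∀ i, Nonempty ((DRingKP.σSeq C (a + 1)).map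
        (HomologicalComplex.eval (ModuleCat.{u} A) (ComplexShape.up ℤ) i)).Splitting := fun i => by
      rcases le_or_gt (a + 1) i with hi | hi
      · haveI := DRingKP.isIso_σι_f C (a + 1) i hi
        exact ⟨{ r := inv ((DRingKP.σι C (a + 1)).f i)
                 s := 0
                 f_r := IsIso.hom_inv_id ((DRingKP.σι C (a + 1)).f i)
                 s_g := (DRingKP.isZero_σQuot C (a + 1) i hi).eq_of_src _ _
                 id := by rw [comp_zero, add_zero]; exact IsIso.inv_hom_id ((DRingKP.σι C (a + 1)).f i) }⟩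
      · haveI := DRingKP.isIso_σπ_f C (a + 1) i hi
        exact ⟨{ r := 0
                 s := inv ((DRingKP.σSeq C (a + 1)).g.f i)
                 f_r := (DRingKP.isZero_σGE_X C (a + 1) i hi).eq_of_src _ _
                 s_g := IsIso.inv_hom_id ((DRingKP.σSeq C (a + 1)).g.f i)
                 id := by rw [zero_comp, zero_add]; exact IsIso.hom_inv_id ((DRingKP.σSeq C (a + 1)).g.f i) }⟩
    refine Uni.middle (S := DRingKP.σSeq C (a + 1)) key (ih (a + 1) _ (fun i hi => ?_) fun i => ?_) ?_
    · rcases hi with hi | hi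
      · exact DRingKP.isZero_σGE_X C (a + 1) i hi
      · exact IsZero.of_mono ((DRingKP.σι C (a + 1)).f i) (h i (by push_cast; lia))
    · rcases le_or_gt (a + 1) i with hi | hi
      · haveI := DRingKP.isIso_σι_f C (a + 1) i hi
        exact (hg i).of_iso (asIso ((DRingKP.σι C (a + 1)).f i)).symm
      · exact good_zero (DRingKP.isZero_σGE_X C (a + 1) i hi)
    · haveI := DRingKP.isIso_σπ_f C (a + 1) a (by lia)
      refine uni_conc (hg a) _ a (fun i hi => ?_) (asIso ((DRingKP.σSeq C (a + 1)).g.f a)).symm
      rcases le_or_gt (a + 1) i with hi' | hi'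
      · exact DRingKP.isZero_σQuot C (a + 1) i hi'
      · haveI := DRingKP.isIso_σπ_f C (a + 1) i hi'
        exact (h i (Or.inl (by lia))).of_iso (asIso ((DRingKP.σSeq C (a + 1)).g.f i)).symm

/-- localisations of good modules are good -/
lemma Good.loc (S : Submonoid A) {N : ModuleCat.{u} A} (h : Good N) :
    Good (ModuleCat.of A (LocalizedModule S N)) := by
  induction h with
  | @base N B _ _ _ M _ e =>
    letI : Module A M := Module.compHom M (algebraMap A B)
    haveI : IsScalarTower A B M := IsScalarTower.of_algebraMap_smul fun _ _ => rfl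
    let T := Algebra.algebraMapSubmonoid B S
    haveI : IsLocalizedModule S ((LocalizedModule.mkLinearMap T M).restrictScalars A) :=
      IsLocalizedModule.restrictScalars (A := B) S (LocalizedModule.mkLinearMap T M)
    let e₀ : M ≃ₗ[A] N :=
      { toFun := fun x => e.toLinearEquiv x
        invFun := fun y => e.toLinearEquiv.symm y
        map_add' := fun x y => e.toLinearEquiv.map_add x y
        map_smul' := fun a x => e.toLinearEquiv.map_smul a x
        left_inv := fun x => e.toLinearEquiv.symm_apply_apply x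
        right_inv := fun y => e.toLinearEquiv.apply_symm_apply y }
    haveI : IsLocalizedModule S (((LocalizedModule.mkLinearMap T M).restrictScalars A).comp e₀.symm.toLinearMap) :=
      IsLocalizedModule.of_linearEquiv_right S _ e₀.symm
    let i := IsLocalizedModule.iso S (((LocalizedModule.mkLinearMap T M).restrictScalars A).comp e₀.symm.toLinearMap)
    haveI : IsNoetherianRing (Localization T) := IsLocalization.isNoetherianRing T _ inferInstance
    exact .base (Localization T) (ModuleCat.of (Localization T) (LocalizedModule T M))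
      (LinearEquiv.toModuleIso (X₁ := (ModuleCat.restrictScalars.{u} (algebraMap A (Localization T))).obj
          (ModuleCat.of (Localization T) (LocalizedModule T M)))
        (X₂ := ModuleCat.of A (LocalizedModule S N))
        { toFun := fun x => i.symm x
          invFun := fun y => i y
          map_add' := fun x y => i.symm.map_add x y
          map_smul' := fun a x => by
            refine Eq.trans (congrArg i.symm ?_) (i.symm.map_smul a x)
            change algebraMap A (Localization T) a • (id x : LocalizedModule T M) = a • (id x : LocalizedModule T M)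
            exact algebraMap_smul (Localization T) a (id x : LocalizedModule T M)
          left_inv := fun x => i.apply_symm_apply x
          right_inv := fun y => i.symm_apply_apply y })
  | @split S' σ _ _ ih₁ ih₃ =>
    exact Good.split (S := S'.map (DerCA.locFunctor S)) (σ.map (DerCA.locFunctor S)) ih₁ ih₃

end Groth.Agent.RGCompl
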