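import Groth.Agent.RGCompl.CompFun
import Groth.Agent.RGCompl.Model
import Groth.Agent.RGCompl.Univ

/-!
The extended Čech complex commutes with reduction modulo powers of an ideal; its terms are good.
-/

set_option autoImplicit false
set_option linter.style.haveILetI false
set_option backward.isDefEq.respectTransparency false
set_option backward.isDefEq.respectTransparency.types false
universe u

namespace Groth.Agent.RGCompl

open CategoryTheory Limits Groth.Agent.CechX

variable {A : Type u} [CommRing A]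

/-- `φ` is termwise the reduction modulo `J` -/
structure IsRed (J : Ideal A) {K L : DRing.Cx A} (φ : K ⟶ L) : Prop where
  surj : ∀ p (y : L.X p), ∃ x, φ.f p x = y
  ker : ∀ p (x : K.X p), φ.f p x = 0 → x ∈ (J • ⊤ : Submodule A (K.X p))
  kill : ∀ p (y : L.X p), ∀ a ∈ J, a • y = 0

theorem isRed_single (J : Ideal A) {M N : ModuleCat.{u} A} (π : M ⟶ N) (hs : Function.Surjective π)
    (hk : ∀ x : M, π x = 0 → x ∈ (J • ⊤ : Submodule A M)) (hkill : ∀ (y : N), ∀ a ∈ J, a • y = 0) :
    IsRed J ((HomologicalComplex.single (ModuleCat.{u} A) (ComplexShape.up ℤ) 0).map π) := by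
  let F := HomologicalComplex.single (ModuleCat.{u} A) (ComplexShape.up ℤ) 0
  let eM := HomologicalComplex.singleObjXSelf (ComplexShape.up ℤ) 0 M
  let eN := HomologicalComplex.singleObjXSelf (ComplexShape.up ℤ) 0 N
  have h0 : ∀ x, (F.map π).f 0 x = eN.inv (π (eM.hom x)) := fun x => by
    simp [F, eM, eN, HomologicalComplex.single_map_f_self]
  refine ⟨fun p y => ?_, fun p x hx => ?_, fun p y a ha => ?_⟩
  · by_cases hp : p = 0
    · subst hp
      obtain ⟨x, hx⟩ := hs (eN.hom y)
      refine ⟨eM.inv x, ?_⟩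
      rw [h0]
      erw [eM.toLinearEquiv.apply_symm_apply x, hx]
      exact eN.toLinearEquiv.symm_apply_apply y
    · exact ⟨0, (ModuleCat.subsingleton_of_isZero (HomologicalComplex.isZero_single_obj_X _ 0 N p hp)).elim _ _⟩
  · by_cases hp : p = 0
    · subst hp
      rw [h0] at hx
      have h1 : eM.hom x ∈ (J • ⊤ : Submodule A M) := hk _ (eN.symm.toLinearEquiv.map_eq_zero_iff.1 hx)
      have h2 := Submodule.smul_top_le_comap_smul_top J eM.inv.hom h1
      rw [Submodule.mem_comap, ← ConcreteCategory.comp_apply, eM.hom_inv_id] at h2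
      exact h2
    · rw [show x = 0 from (ModuleCat.subsingleton_of_isZero
        (HomologicalComplex.isZero_single_obj_X _ 0 M p hp)).elim _ _]
      exact zero_mem _
  · by_cases hp : p = 0
    · subst hp
      exact eN.toLinearEquiv.injective (by rw [map_smul, map_zero]; exact hkill _ a ha)
    · exact (ModuleCat.subsingleton_of_isZero (HomologicalComplex.isZero_single_obj_X _ 0 N p hp)).elim _ _

theorem IsRed.loc {J : Ideal A} {K L : DRing.Cx A} {φ : K ⟶ L} (h : IsRed J φ) (S : Submonoid A) :
    IsRed J ((DerCA.locCx S).map φ) := by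
  refine ⟨fun p y => ?_, fun p z hz => ?_, fun p y a ha => ?_⟩
  · obtain ⟨y, s, rfl⟩ := exists_frac S p y
    obtain ⟨x, rfl⟩ := h.surj p y
    exact ⟨frac S p x s, map_frac S φ p x s⟩
  · obtain ⟨x, s, rfl⟩ := exists_frac S p z
    rw [map_frac, frac_eq_zero_iff] at hz
    obtain ⟨t, ht⟩ := hz
    rw [← map_smul] at ht
    have h1 := h.ker p _ ht
    rw [← frac_smul S p x s t]
    let ℓ : K.X p →ₗ[A] ((DerCA.locCx S).obj K).X p :=
      { toFun := fun y => frac S p y (t * s)
        map_add' := fun y y' => (LocalizedModule.mk_add_mk).trans (by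
          rw [← smul_add]; exact LocalizedModule.mk_cancel_common_left _ _ _) |>.symm
        map_smul' := fun a y => (LocalizedModule.smul'_mk a y (t * s)).symm }
    exact Submodule.smul_top_le_comap_smul_top J ℓ h1
  · obtain ⟨x, s, rfl⟩ := exists_frac S p y
    refine (LocalizedModule.smul'_mk a x s).trans ?_
    rw [h.kill p x a ha, LocalizedModule.zero_mk]

theorem IsRed.cocone {J : Ideal A} {K L K' L' : DRing.Cx A} {φ : K ⟶ L} {φ' : K' ⟶ L'} {a : K ⟶ K'}
    {b : L ⟶ L'} (w : φ ≫ b = a ≫ φ') (ha : IsRed J a) (hb : IsRed J b) : IsRed J (coconeMap a b w) := by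
  refine ⟨fun p z => ?_, fun p z hz => ?_, fun p z r hr => ?_⟩
  · obtain ⟨x, hx⟩ := ha.surj p (pr1 φ' p z)
    obtain ⟨y, hy⟩ := hb.surj (p - 1) (pr2 φ' (p - 1) p (sub_add_cancel p 1) z)
    refine ⟨CechX.mk φ (p - 1) p (sub_add_cancel p 1) x y, ?_⟩
    rw [coconeMap_apply a b w (sub_add_cancel p 1), pr1_mk, pr2_mk, hx, hy, mk_pr]
  · rw [coconeMap_apply a b w (sub_add_cancel p 1)] at hz
    have h1 := congrArg (pr1 φ' p) hz
    have h2 := congrArg (pr2 φ' (p - 1) p (sub_add_cancel p 1)) hz
    rw [pr1_mk, map_zero] at h1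
    rw [pr2_mk, map_zero] at h2
    rw [← mk_pr (sub_add_cancel p 1) z]
    exact add_mem (Submodule.smul_top_le_comap_smul_top J _ (ha.ker p _ h1))
      (Submodule.smul_top_le_comap_smul_top J _ (hb.ker (p - 1) _ h2))
  · refine CechX.ext (sub_add_cancel p 1) ?_ ?_
    · rw [map_smul, map_zero, ha.kill p _ r hr]
    · rw [map_smul, map_zero, hb.kill (p - 1) _ r hr]

theorem isRed_ecMap {J : Ideal A} {K L : DRing.Cx A} {φ : K ⟶ L} (h : IsRed J φ) :
    ∀ fs : List A, IsRed J (ecMap φ fs)
  | [] => h
  | _ :: fs => IsRed.cocone (unit_naturality _ _) (isRed_ecMap h fs) ((isRed_ecMap h fs).loc _)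

variable (I : Ideal A)

/-- `M → M/I^n M` -/
noncomputable def mkQn (n : ℕ) (M : ModuleCat.{u} A) : M ⟶ (quotF I n).obj M :=
  ModuleCat.ofHom (Submodule.mkQ (I ^ n • ⊤ : Submodule A M))

theorem mkQn_trans (n : ℕ) (M : ModuleCat.{u} A) : mkQn I (n + 1) M ≫ (trans I n).app M = mkQn I n M := rfl

variable (fs : List A) (M : ModuleCat.{u} A)

/-- the reduction of the Čech complex -/
noncomputable def redMap (n : ℕ) : EC fs (single0 M) ⟶ EC fs (single0 ((quotF I n).obj M)) :=
  ecMap ((HomologicalComplex.single (ModuleCat.{u} A) (ComplexShape.up ℤ) 0).map (mkQn I n M)) fs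

theorem isRed_redMap (n : ℕ) : IsRed (I ^ n) (redMap I fs M n) :=
  isRed_ecMap (isRed_single (I ^ n) (mkQn I n M) (Submodule.mkQ_surjective _)
    (fun _ hx => (Submodule.Quotient.mk_eq_zero _).1 hx) fun y a ha => by
      obtain ⟨x, rfl⟩ := Submodule.mkQ_surjective _ y
      change Submodule.Quotient.mk (a • x) = (0 : M ⧸ (I ^ n • ⊤ : Submodule A M))
      exact (Submodule.Quotient.mk_eq_zero _).2 (Submodule.smul_mem_smul ha trivial)) fs

/-- the component of the comparison -/
noncomputable def redLift (n : ℕ) (p : ℤ) :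
    (quotF I n).obj ((EC fs (single0 M)).X p) ⟶ (EC fs (single0 ((quotF I n).obj M))).X p :=
  ModuleCat.ofHom (Submodule.liftQ _ ((redMap I fs M n).f p).hom (Submodule.smul_le.2 fun a ha x _ => by
    rw [LinearMap.mem_ker, map_smul]
    exact (isRed_redMap I fs M n).kill p _ a ha))

theorem redLift_mk (n : ℕ) (p : ℤ) (x : (EC fs (single0 M)).X p) :
    redLift I fs M n p (Submodule.Quotient.mk x) = (redMap I fs M n).f p x := rfl

instance isIso_redLift (n : ℕ) (p : ℤ) : IsIso (redLift I fs M n p) := by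
  refine (ConcreteCategory.isIso_iff_bijective _).2
    ⟨(injective_iff_map_eq_zero (redLift I fs M n p).hom).2 fun y hy => ?_, fun z => ?_⟩
  · obtain ⟨x, rfl⟩ := Submodule.Quotient.mk_surjective _ y
    exact (Submodule.Quotient.mk_eq_zero _).2 ((isRed_redMap I fs M n).ker p x hy)
  · obtain ⟨x, hx⟩ := (isRed_redMap I fs M n).surj p z
    exact ⟨Submodule.Quotient.mk x, hx⟩

/-- Čech commutes with reduction -/
noncomputable def redIso (n : ℕ) :
    (quotCx I n).obj (EC fs (single0 M)) ≅ EC fs (single0 ((quotF I n).obj M)) :=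
  HomologicalComplex.Hom.isoOfComponents (fun p => asIso (redLift I fs M n p)) fun p q _ => by
    refine ModuleCat.hom_ext (LinearMap.ext fun y => ?_)
    obtain ⟨x, rfl⟩ := Submodule.Quotient.mk_surjective _ y
    exact (congrArg (fun k => k.hom x) ((redMap I fs M n).comm p q))

theorem redIso_trans (n : ℕ) :
    (redIso I fs M (n + 1)).hom ≫
        ecMap ((HomologicalComplex.single (ModuleCat.{u} A) (ComplexShape.up ℤ) 0).map ((trans I n).app M)) fs =
      natCx (trans I n) (EC fs (single0 M)) ≫ (redIso I fs M n).hom := by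
  refine HomologicalComplex.hom_ext _ _ fun p => ModuleCat.hom_ext (LinearMap.ext fun y => ?_)
  obtain ⟨x, rfl⟩ := Submodule.Quotient.mk_surjective _ y
  have h : redMap I fs M (n + 1) ≫ ecMap ((HomologicalComplex.single (ModuleCat.{u} A) (ComplexShape.up ℤ) 0).map
      ((trans I n).app M)) fs = redMap I fs M n := by
    rw [redMap, redMap, ← ecMap_comp, ← Functor.map_comp, mkQn_trans]
  exact congrArg (fun k => (k.f p).hom x) h

variable [IsNoetherianRing A]

theorem good_EC : ∀ (fs : List A) (K : DRing.Cx A), (∀ p, Good (K.X p)) → ∀ p, Good ((EC fs K).X p)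
  | [], _, h, p => h p
  | f :: fs, K, h, p => by
    let φ := DerCA.locCxUnit (Submonoid.powers f) (EC fs K)
    exact Good.split (S := ShortComplex.mk ((CochainComplex.mappingCocone.inr φ).1.v (p - 1) p (sub_add_cancel p 1))
        ((CochainComplex.mappingCocone.fst φ).f p) (CochainComplex.mappingCocone.inr_v_fst_f φ (p - 1) p (sub_add_cancel p 1)))
      { r := (CochainComplex.mappingCocone.snd φ).v p (p - 1) (by lia)
        s := (CochainComplex.mappingCocone.inl φ).v p p (add_zero p)
        f_r := CochainComplex.mappingCocone.inr_v_snd_v φ (p - 1) p (sub_add_cancel p 1)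
        s_g := CochainComplex.mappingCocone.inl_v_fst_f φ p
        id := by rw [add_comm]; exact CochainComplex.mappingCocone.id_X φ p (p - 1) (by lia) }
      (Good.loc _ (good_EC fs K h (p - 1))) (good_EC fs K h p)

theorem uni_EC [Module.Finite A M] : Uni I (EC fs (single0 M)) := by
  refine uni_bounded (fs.length + 1) 0 _ (fun i hi => ?_) (good_EC fs _ fun p => ?_)
  · haveI : Subsingleton ((EC fs (single0 M)).X i) :=
      subsingleton_of_forall_eq 0 fun x => EC_single_eq_zero M fs i (by push_cast at hi; lia) x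
    exact ModuleCat.isZero_of_subsingleton _
  · by_cases hp : p = 0
    · subst hp
      exact (good_finite M).of_iso (HomologicalComplex.singleObjXSelf (ComplexShape.up ℤ) 0 M).symm
    · exact good_zero (HomologicalComplex.isZero_single_obj_X (ComplexShape.up ℤ) 0 M p hp)

end Groth.Agent.RGCompl
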