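import Groth.Agent.RGCompl.Completion
import Groth.Agent.FinAdic.Basic

/-!
`H⁰` of the completion of `RΓ_J` of a finite module over a complete ring.
-/

set_option autoImplicit false
set_option linter.style.haveILetI false
set_option backward.isDefEq.respectTransparency false
set_option backward.isDefEq.respectTransparency.types false
universe u

namespace Groth.Agent.RGCompl

open CategoryTheory Limits Pretriangulated Groth.Agent.CechX

attribute [local instance] HasDerivedCategory.standard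

variable {A : Type u} [CommRing A]

/-- powers of `f` push `x` into every power of `I` -/
def Sat (I : Ideal A) (f : A) {X : Type u} [AddCommGroup X] [Module A X] (x : X) : Prop :=
  ∀ n : ℕ, ∃ k : ℕ, f ^ k • x ∈ (I ^ n • ⊤ : Submodule A X)

theorem sat_equiv (I : Ideal A) (f : A) {X Y : Type u} [AddCommGroup X] [Module A X] [AddCommGroup Y] [Module A Y]
    (e : X ≃ₗ[A] Y) (x : X) : Sat I f (e x) ↔ Sat I f x := by
  refine forall_congr' fun n => exists_congr fun k => ⟨fun h => ?_, fun h => ?_⟩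
  · have := Submodule.smul_top_le_comap_smul_top (I ^ n) e.symm.toLinearMap h
    simpa using this
  · have := Submodule.smul_top_le_comap_smul_top (I ^ n) e.toLinearMap h
    simpa using this

theorem frac_mem_smul_top_iff (J : Ideal A) (S : Submonoid A) (K : DRing.Cx A) (p : ℤ) (x : K.X p) :
    frac S p x 1 ∈ (J • ⊤ : Submodule A (((DerCA.locCx S).obj K).X p)) ↔
      ∃ t : S, (t : A) • x ∈ (J • ⊤ : Submodule A (K.X p)) := by
  constructor
  · intro h
    have key : ∀ z ∈ (J • ⊤ : Submodule A (((DerCA.locCx S).obj K).X p)),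
        ∃ y ∈ (J • ⊤ : Submodule A (K.X p)), ∃ s : S, frac S p y s = z := by
      intro z hz
      induction hz using Submodule.smul_induction_on' with
      | smul a ha z _ =>
        obtain ⟨y, s, rfl⟩ := exists_frac S p z
        exact ⟨a • y, Submodule.smul_mem_smul ha trivial, s, (LocalizedModule.smul'_mk a y s).symm⟩
      | add z _ z' _ hz hz' =>
        obtain ⟨y, hy, s, rfl⟩ := hz
        obtain ⟨y', hy', s', rfl⟩ := hz'
        exact ⟨(s' : A) • y + (s : A) • y', add_mem (Submodule.smul_mem _ _ hy) (Submodule.smul_mem _ _ hy'),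
          s * s', LocalizedModule.mk_add_mk.symm⟩
    obtain ⟨y, hy, s, hs⟩ := key _ h
    change (LocalizedModule.mk y s : LocalizedModule S (K.X p)) = LocalizedModule.mk x 1 at hs
    rw [LocalizedModule.mk_eq] at hs
    obtain ⟨t, ht⟩ := hs
    simp only [Submonoid.smul_def, one_smul] at ht
    refine ⟨t * s, ?_⟩
    rw [Submonoid.coe_mul, mul_smul, ← ht]
    exact Submodule.smul_mem _ _ hy
  · rintro ⟨t, ht⟩
    let ℓ : K.X p →ₗ[A] ((DerCA.locCx S).obj K).X p :=
      { toFun := fun y => frac S p y t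
        map_add' := fun y y' => ((LocalizedModule.mk_add_mk).trans (by
          rw [← smul_add]; exact LocalizedModule.mk_cancel_common_left _ _ _)).symm
        map_smul' := fun a y => (LocalizedModule.smul'_mk a y t).symm }
    have h := Submodule.smul_top_le_comap_smul_top J ℓ ht
    have e := frac_smul S p x 1 t
    rw [mul_one] at e
    rw [← e]
    exact h

variable (M : ModuleCat.{u} A)

theorem bijective_ecπ0 : ∀ fs : List A, Function.Bijective ((ecπ fs (single0 M)).f 0)
  | [] => Function.bijective_id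
  | f :: fs => by
    refine (bijective_ecπ0 fs).comp ⟨fun x y h => ?_, fun x => ?_⟩
    · refine CechX.ext (sub_add_cancel 0 1) h ?_
      have hz : ∀ z : ((DerCA.locCx (Submonoid.powers f)).obj (EC fs (single0 M))).X (0 - 1), z = 0 := fun z => by
        obtain ⟨w, s, rfl⟩ := exists_frac _ _ z
        rw [frac_eq_zero_iff, EC_single_eq_zero M fs _ (by lia) w]
        exact ⟨1, smul_zero _⟩
      exact (hz _).trans (hz _).symm
    · exact ⟨CechX.mk _ (0 - 1) 0 (sub_add_cancel 0 1) x 0, pr1_mk (sub_add_cancel 0 1) x 0⟩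

theorem cycle_iff (I : Ideal A) : ∀ (fs : List A) (c : (EC fs (single0 M)).X 0),
    (∀ n : ℕ, (EC fs (single0 M)).d 0 1 c ∈ (I ^ n • ⊤ : Submodule A ((EC fs (single0 M)).X 1))) ↔
      ∀ f ∈ fs, Sat I f ((ecπ fs (single0 M)).f 0 c)
  | [], c => by
    refine ⟨fun _ f hf => absurd hf List.not_mem_nil, fun _ n => ?_⟩
    have h : (EC [] (single0 M)).d 0 1 c = 0 := single0_eq_zero M 1 (Or.inr one_pos) _
    exact h.symm ▸ zero_mem _
  | f :: fs, c => by
    let E := EC fs (single0 M)
    let φ := DerCA.locCxUnit (Submonoid.powers f) E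
    change (CochainComplex.mappingCocone φ).X 0 at c
    set x := pr1 φ 0 c with hx
    have hd : (EC (f :: fs) (single0 M)).d 0 1 c =
        CechX.mk φ 0 1 (zero_add 1) (E.d 0 1 x) (-(frac (Submonoid.powers f) 0 x 1)) := by
      refine CechX.ext (φ := φ) (zero_add 1) ?_ ?_
      · rw [pr1_mk]
        exact pr1_d (φ := φ) 0 1 c
      · rw [pr2_mk]
        refine (pr2_d (φ := φ) (sub_add_cancel 0 1) (zero_add 1) c).trans ?_
        have hv : pr2 φ (0 - 1) 0 (sub_add_cancel 0 1) c = 0 := by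
          obtain ⟨w, s, hws⟩ := exists_frac (Submonoid.powers f) (0 - 1) (pr2 φ (0 - 1) 0 (sub_add_cancel 0 1) c)
          rw [← hws, frac_eq_zero_iff, EC_single_eq_zero M fs _ (by lia) w]
          exact ⟨1, smul_zero _⟩
        rw [hv, map_zero, sub_zero]
        rfl
    have hm : ∀ n : ℕ, (EC (f :: fs) (single0 M)).d 0 1 c ∈ (I ^ n • ⊤ : Submodule A _) ↔
        (E.d 0 1 x ∈ (I ^ n • ⊤ : Submodule A _)) ∧ frac (Submonoid.powers f) 0 x 1 ∈ (I ^ n • ⊤ : Submodule A _) := by
      intro n
      rw [hd]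
      constructor
      · intro h
        have h1 := Submodule.smul_top_le_comap_smul_top (I ^ n) (pr1 φ 1) h
        have h2 := Submodule.smul_top_le_comap_smul_top (I ^ n) (pr2 φ 0 1 (zero_add 1)) h
        rw [Submodule.mem_comap, pr1_mk] at h1
        rw [Submodule.mem_comap, pr2_mk, neg_mem_iff] at h2
        exact ⟨h1, h2⟩
      · rintro ⟨h1, h2⟩
        exact add_mem (Submodule.smul_top_le_comap_smul_top _ _ h1)
          (Submodule.smul_top_le_comap_smul_top _ _ (neg_mem h2))
    have hπ : (ecπ (f :: fs) (single0 M)).f 0 c = (ecπ fs (single0 M)).f 0 x := rfl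
    rw [List.forall_mem_cons, hπ, ← cycle_iff I fs x]
    have hs : Sat I f ((ecπ fs (single0 M)).f 0 x) ↔
        ∀ n : ℕ, frac (Submonoid.powers f) 0 x 1 ∈ (I ^ n • ⊤ : Submodule A _) := by
      rw [show (ecπ fs (single0 M)).f 0 x = LinearEquiv.ofBijective ((ecπ fs (single0 M)).f 0).hom
        (bijective_ecπ0 M fs) x from rfl, sat_equiv]
      refine forall_congr' fun n => (Iff.trans ?_ (frac_mem_smul_top_iff (I ^ n) (Submonoid.powers f) E 0 x).symm)
      exact ⟨fun ⟨k, hk⟩ => ⟨⟨f ^ k, k, rfl⟩, hk⟩, fun ⟨⟨_, k, rfl⟩, hk⟩ => ⟨k, hk⟩⟩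
    rw [hs]
    exact ⟨fun h => ⟨fun n => ((hm n).1 (h n)).2, fun n => ((hm n).1 (h n)).1⟩,
      fun h n => (hm n).2 ⟨h.2 n, h.1 n⟩⟩

theorem exists_mem_of_sat [IsNoetherianRing A] (I : Ideal A) {X : Type u} [AddCommGroup X] [Module A X]
    [Module.Finite A X] (f : A) (x : X) (h : Sat I f x) :
    f ∈ (Ideal.torsionOf A X x ⊔ I).radical := by
  let S := Submonoid.powers f
  let R' := Localization S
  haveI : IsNoetherianRing R' := IsLocalization.isNoetherianRing S R' inferInstance
  let N := LocalizedModule S X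
  let j : X →ₗ[A] N := LocalizedModule.mkLinearMap S X
  have hmem : j x ∈ (⨅ i : ℕ, (I.map (algebraMap A R')) ^ i • ⊤ : Submodule R' N) := by
    refine (Submodule.mem_iInf _).2 fun n => ?_
    obtain ⟨k, hk⟩ := h n
    have h1 : j (f ^ k • x) ∈ ((I.map (algebraMap A R')) ^ n • ⊤ : Submodule R' N) := by
      rw [← Ideal.map_pow, ← Submodule.restrictScalars_mem A, Ideal.smul_restrictScalars,
        Submodule.restrictScalars_top]
      exact Submodule.smul_top_le_comap_smul_top (I ^ n) j hk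
    have hu : IsUnit (algebraMap A R' (f ^ k)) := IsLocalization.map_units R' (⟨f ^ k, k, rfl⟩ : S)
    rw [map_smul, ← algebraMap_smul R' (f ^ k) (j x)] at h1
    exact (Submodule.smul_mem_iff_of_isUnit _ hu).1 h1
  obtain ⟨⟨r, hr⟩, hrx⟩ := (Ideal.mem_iInf_smul_pow_eq_bot_iff _ _).1 hmem
  obtain ⟨⟨⟨a, ha⟩, ⟨_, i, rfl⟩⟩, e⟩ := (IsLocalization.mem_map_algebraMap_iff S R').1 hr
  change r * algebraMap A R' (f ^ i) = algebraMap A R' a at e
  have h2 : j (a • x) = j (f ^ i • x) := by
    rw [map_smul, map_smul, ← algebraMap_smul R' a (j x), ← e, mul_comm, mul_smul, hrx, algebraMap_smul]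
  obtain ⟨⟨_, l, rfl⟩, hl⟩ := (IsLocalizedModule.eq_iff_exists S j).1 h2
  change f ^ l • a • x = f ^ l • f ^ i • x at hl
  refine ⟨l + i, ?_⟩
  have he : f ^ (l + i) - f ^ l * a ∈ Ideal.torsionOf A X x := by
    rw [Ideal.mem_torsionOf_iff, sub_smul, pow_add, mul_smul, mul_smul, hl, sub_self]
  exact (sub_add_cancel (f ^ (l + i)) (f ^ l * a)) ▸
    Submodule.add_mem_sup he (I.mul_mem_left _ ha)

theorem sat_iff [IsNoetherianRing A] (I : Ideal A) {X : Type u} [AddCommGroup X] [Module A X]
    [Module.Finite A X] (fs : List A) (x : X) :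
    (∀ f ∈ fs, Sat I f x) ↔ ∃ J' : Ideal A, J' ≤ Ideal.span {a | a ∈ fs} ∧
      Ideal.span {a | a ∈ fs} ≤ (J' ⊔ I).radical ∧ x ∈ DRing.torsionSub J' X := by
  constructor
  · intro h
    refine ⟨Ideal.span {a | a ∈ fs} * Ideal.torsionOf A X x, Ideal.mul_le_left, Ideal.span_le.2 fun f hf => ?_,
      1, fun a ha => ?_⟩
    · obtain ⟨k, hk⟩ := exists_mem_of_sat I f x (h f hf)
      obtain ⟨e, he, i, hi, hei⟩ := Submodule.mem_sup.1 hk
      refine ⟨k + 1, ?_⟩
      rw [pow_succ', ← hei, mul_add]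
      exact Submodule.add_mem_sup (Ideal.mul_mem_mul (Ideal.subset_span hf) he) (I.mul_mem_left _ hi)
    · rw [pow_one] at ha
      exact (Ideal.mem_torsionOf_iff _ _).1 (Ideal.mul_le_right ha)
  · rintro ⟨J', -, hJ, m, hm⟩ f hf n
    obtain ⟨N, hN⟩ := hJ (Ideal.subset_span hf)
    obtain ⟨e, he, a, ha, hea⟩ := Submodule.mem_sup.1
      (Ideal.sup_pow_add_le_pow_sup_pow (Ideal.pow_mem_pow hN (m + n)))
    refine ⟨N * (m + n), ?_⟩
    rw [pow_mul, ← hea, add_smul, hm e he, zero_add]
    exact Submodule.smul_mem_smul ha trivial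

theorem mem_torsionSub_equiv {X Y : Type u} [AddCommGroup X] [Module A X] [AddCommGroup Y] [Module A Y]
    (e : X ≃ₗ[A] Y) (J : Ideal A) (x : X) : e x ∈ DRing.torsionSub J Y ↔ x ∈ DRing.torsionSub J X := by
  refine exists_congr fun n => forall₂_congr fun a _ => ?_
  rw [← map_smul, LinearEquiv.map_eq_zero_iff]

variable [IsNoetherianRing A] (fs : List A) (I : Ideal A) [IsAdicComplete I A] [Module.Finite A M]

theorem injective_homologyMap_proj :
    Function.Injective (HomologicalComplex.homologyMap ((cmpCx I).map (ecπ fs (single0 M))) 0) := by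
  let C := (cmpCx I).obj (EC fs (single0 M))
  let D := (cmpCx I).obj (single0 M)
  let P := (cmpCx I).map (ecπ fs (single0 M))
  have hb : Function.Bijective (P.f 0) := by
    haveI : IsIso ((ecπ fs (single0 M)).f 0) := (ConcreteCategory.isIso_iff_bijective _).2 (bijective_ecπ0 M fs)
    exact (ConcreteCategory.isIso_iff_bijective _).1 (inferInstanceAs (IsIso ((cmp I).map ((ecπ fs (single0 M)).f 0))))
  refine (injective_iff_map_eq_zero (HomologicalComplex.homologyMap P 0).hom).2 fun h hh => ?_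
  obtain ⟨z, rfl⟩ := hcls_surjective (K := C) 0 h
  erw [map_hcls P 0 z] at hh
  obtain ⟨y, hy⟩ := (hcls_eq_zero_iff (K := D) 0 (-1) (by lia) _).1 hh
  have hy0 : y = 0 := (ModuleCat.subsingleton_of_isZero ((cmp I).map_isZero
    (HomologicalComplex.isZero_single_obj_X (ComplexShape.up ℤ) 0 M (-1) (by lia)))).elim _ _
  rw [hy0, map_zero] at hy
  have : z = 0 := Subtype.ext (hb.1 (hy.symm.trans (map_zero _).symm))
  rw [this, map_zero]

/-- the class of an element of a complex concentrated in degree zero -/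
noncomputable def clsEquiv : (single0 M).X 0 ≃ₗ[A] (single0 M).homology 0 :=
  LinearEquiv.ofBijective ((hcls (single0 M) 0).comp (LinearMap.codRestrict _ LinearMap.id fun x => by
      rw [LinearMap.mem_ker]; exact single0_eq_zero M _ (Or.inr (by lia)) _)) (by
    refine ⟨(injective_iff_map_eq_zero _).2 fun x hx => ?_, fun h => ?_⟩
    · obtain ⟨y, hy⟩ := (hcls_eq_zero_iff (K := single0 M) 0 (-1) (by lia) _).1 hx
      rw [single0_eq_zero M (-1) (Or.inl (by lia)) y, map_zero] at hy
      exact hy.symm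
    · obtain ⟨z, rfl⟩ := hcls_surjective (K := single0 M) 0 h
      exact ⟨z.1, rfl⟩)

theorem range_homologyMap_proj :
    Set.range (HomologicalComplex.homologyMap ((cmpCx I).map (ecπ fs (single0 M))) 0) =
      (fun x => HomologicalComplex.homologyMap (cι I (single0 M)) 0 (clsEquiv M x)) ''
        {x | ∀ f ∈ fs, Sat I f x} := by
  let K := EC fs (single0 M)
  let P := (cmpCx I).map (ecπ fs (single0 M))
  haveI : Module.Finite A ((single0 M).X 0) :=
    Module.Finite.equiv (HomologicalComplex.singleObjXSelf (ComplexShape.up ℤ) 0 M).toLinearEquiv.symm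
  have hfinK : Module.Finite A (K.X 0) :=
    Module.Finite.equiv (LinearEquiv.ofBijective ((ecπ fs (single0 M)).f 0).hom (bijective_ecπ0 M fs)).symm
  haveI : IsAdicComplete I (K.X 0) := FinAdic.isAdicComplete_of_finite I _
  have hcyc : ∀ c : K.X 0, ((cmpCx I).obj K).d 0 (0 + 1) ((cι I K).f 0 c) = 0 ↔
      ∀ f ∈ fs, Sat I f ((ecπ fs (single0 M)).f 0 c) := fun c => by
    rw [← cycle_iff M I fs c]
    rw [show (0 : ℤ) + 1 = 1 from zero_add 1]
    have e : ((cmpCx I).obj K).d 0 1 ((cι I K).f 0 c) = AdicCompletion.of I (K.X 1) (K.d 0 1 c) :=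
      congrArg (fun k => k.hom c) ((cι I K).comm 0 1)
    rw [e]
    refine ⟨fun h n => ?_, fun h => AdicCompletion.ext fun n => ?_⟩
    · exact (Submodule.Quotient.mk_eq_zero _).1 (congrArg (fun z : AdicCompletion I (K.X 1) => z.1 n) h)
    · exact (Submodule.Quotient.mk_eq_zero _).2 (h n)
  have hnat : ∀ c : K.X 0, P.f 0 ((cι I K).f 0 c) = (cι I (single0 M)).f 0 ((ecπ fs (single0 M)).f 0 c) := fun c =>
    congrArg (fun k => (k.f 0).hom c) (cι_natural I (ecπ fs (single0 M))).symm
  have hcls' : ∀ (x : (single0 M).X 0) (z : LinearMap.ker (((cmpCx I).obj (single0 M)).d 0 (0 + 1)).hom),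
      z.1 = (cι I (single0 M)).f 0 x →
        hcls _ 0 z = HomologicalComplex.homologyMap (cι I (single0 M)) 0 (clsEquiv M x) := fun x z hz =>
    ((map_hcls (cι I (single0 M)) 0 ⟨x, single0_eq_zero M _ (Or.inr (by lia)) _⟩).trans
      (congrArg _ (Subtype.ext hz.symm))).symm
  ext h
  constructor
  · rintro ⟨h', rfl⟩
    obtain ⟨z, rfl⟩ := hcls_surjective (K := (cmpCx I).obj K) 0 h'
    obtain ⟨c, hc⟩ := (AdicCompletion.of_bijective I (K.X 0)).2 z.1
    change (cι I K).f 0 c = z.1 at hc
    refine ⟨(ecπ fs (single0 M)).f 0 c, (hcyc c).1 (hc ▸ z.2), ?_⟩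
    refine ((map_hcls P 0 z).trans (hcls' _ _ ?_)).symm
    change P.f 0 z.1 = _
    rw [← hc, hnat]
  · rintro ⟨x, hx, rfl⟩
    obtain ⟨c, rfl⟩ := (bijective_ecπ0 M fs).2 x
    exact ⟨hcls _ 0 ⟨(cι I K).f 0 c, (hcyc c).2 hx⟩, (map_hcls P 0 _).trans (hcls' _ _ (hnat c))⟩

theorem H0_main [DRing.HasRgammaI (Ideal.span {a | a ∈ fs})] [DRing.HasDerivedCompletion I] :
    Function.Injective ((DerivedCategory.homologyFunctor (ModuleCat.{u} A) 0).map
      ((ObjectProperty.ι (DRing.IsDerivedComplete I)).map ((DRing.derivedCompletion I).map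
        ((DRing.RgammaIε (Ideal.span {a | a ∈ fs})).app
          ((DerivedCategory.singleFunctor (ModuleCat.{u} A) 0).obj M))))).hom ∧
    Set.range ((DerivedCategory.homologyFunctor (ModuleCat.{u} A) 0).map
      ((ObjectProperty.ι (DRing.IsDerivedComplete I)).map ((DRing.derivedCompletion I).map
        ((DRing.RgammaIε (Ideal.span {a | a ∈ fs})).app
          ((DerivedCategory.singleFunctor (ModuleCat.{u} A) 0).obj M))))).hom =
      (fun s : M => ((DerivedCategory.homologyFunctor (ModuleCat.{u} A) 0).map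
        (DRing.toDerivedCompletion I ((DerivedCategory.singleFunctor (ModuleCat.{u} A) 0).obj M))).hom
        (((DerivedCategory.singleFunctorCompHomologyFunctorIso (ModuleCat.{u} A) 0).inv.app M).hom s)) ''
        {s : M | ∃ J' : Ideal A, J' ≤ Ideal.span {a | a ∈ fs} ∧ Ideal.span {a | a ∈ fs} ≤ (J' ⊔ I).radical ∧
          s ∈ DRing.torsionSub J' M} := by
  let H := DerivedCategory.homologyFunctor (ModuleCat.{u} A) 0
  let eH := DerivedCategory.homologyFunctorFactors (ModuleCat.{u} A) 0
  let sI := (DerivedCategory.singleFunctorIsoCompQ (ModuleCat.{u} A) 0).app M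
  obtain ⟨v, hv⟩ := exists_model fs I M
  obtain ⟨w, hw⟩ := DRingKP.exists_iso_completion I (sI.hom ≫ DerivedCategory.Q.map (cι I (single0 M)))
    (isDerivedComplete_cmpCx I (IsNoetherian.noetherian I) _) fun E hE => by
      simp only [Category.assoc]
      exact ((UnivI.of_isIso sI.hom) E hE).comp (uni_EC I [] M E hE)
  let ε := (DRing.RgammaIε (Ideal.span {a | a ∈ fs})).app ((DerivedCategory.singleFunctor (ModuleCat.{u} A) 0).obj M)
  let G := (ObjectProperty.ι (DRing.IsDerivedComplete I)).map ((DRing.derivedCompletion I).map ε)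
  have hG : v.hom ≫ G = DerivedCategory.Q.map ((cmpCx I).map (ecπ fs (single0 M))) ≫ w.hom := by
    refine ((UnivI.of_isIso (eRΓ fs M).inv) _ ((DRing.derivedCompletion I).obj _).property).comp
      (uni_EC I fs M _ ((DRing.derivedCompletion I).obj _).property) |>.1 ?_
    change (eRΓ fs M).inv ≫ DerivedCategory.Q.map (cι I _) ≫ v.hom ≫ G =
      (eRΓ fs M).inv ≫ DerivedCategory.Q.map (cι I _) ≫ DerivedCategory.Q.map _ ≫ w.hom
    have hn : DRing.toDerivedCompletion I _ ≫ G = ε ≫ DRing.toDerivedCompletion I _ :=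
      ((DRing.derivedCompletionAdj I).unit.naturality ε).symm
    rw [reassoc_of% hv]
    erw [hn]
    dsimp only [Functor.id_obj]
    rw [← hw, ← Functor.map_comp_assoc, ← cι_natural, Functor.map_comp_assoc, Iso.eq_inv_comp]
    have he : (eRΓ fs M).hom ≫ ε = DerivedCategory.Q.map (ecπ fs (single0 M)) ≫ sI.inv := eRΓ_ε fs M
    rw [reassoc_of% he]
    simp only [Category.assoc]
    erw [Iso.inv_hom_id_assoc sI]
  let eA := ((eH.app ((cmpCx I).obj (EC fs (single0 M)))).symm ≪≫ H.mapIso v).toLinearEquiv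
  let eB := ((eH.app ((cmpCx I).obj (single0 M))).symm ≪≫ H.mapIso w).toLinearEquiv
  let ψ := HomologicalComplex.homologyMap ((cmpCx I).map (ecπ fs (single0 M))) 0
  have hψ : ∀ z, (H.map G).hom (eA z) = eB (ψ z) := by
    intro z
    have h1 := eH.inv.naturality ((cmpCx I).map (ecπ fs (single0 M)))
    dsimp at h1
    have h2 : ((eH.app ((cmpCx I).obj (EC fs (single0 M)))).symm ≪≫ H.mapIso v).hom ≫ H.map G =
        ψ ≫ ((eH.app ((cmpCx I).obj (single0 M))).symm ≪≫ H.mapIso w).hom := by
      simp only [Iso.trans_hom, Iso.symm_hom, Iso.app_inv, Functor.mapIso_hom, Category.assoc]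
      rw [← Functor.map_comp, hG, Functor.map_comp]
      erw [reassoc_of% h1]
    exact congrArg (fun k => k.hom z) h2
  let σ : M ≃ₗ[A] (single0 M).homology 0 :=
    (((DerivedCategory.singleFunctorCompHomologyFunctorIso (ModuleCat.{u} A) 0).app M).symm ≪≫
      H.mapIso sI ≪≫ eH.app (single0 M)).toLinearEquiv
  have hη : ∀ s : M, (H.map (DRing.toDerivedCompletion I ((DerivedCategory.singleFunctor (ModuleCat.{u} A) 0).obj M))).hom
      (((DerivedCategory.singleFunctorCompHomologyFunctorIso (ModuleCat.{u} A) 0).inv.app M).hom s) =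
      eB (HomologicalComplex.homologyMap (cι I (single0 M)) 0 (σ s)) := by
    intro s
    have h1 := eH.hom.naturality (cι I (single0 M))
    dsimp at h1
    have h2 : (DerivedCategory.singleFunctorCompHomologyFunctorIso (ModuleCat.{u} A) 0).inv.app M ≫
        H.map (DRing.toDerivedCompletion I ((DerivedCategory.singleFunctor (ModuleCat.{u} A) 0).obj M)) =
        (((DerivedCategory.singleFunctorCompHomologyFunctorIso (ModuleCat.{u} A) 0).app M).symm ≪≫
          H.mapIso sI ≪≫ eH.app (single0 M)).hom ≫ HomologicalComplex.homologyMap (cι I (single0 M)) 0 ≫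
          ((eH.app ((cmpCx I).obj (single0 M))).symm ≪≫ H.mapIso w).hom := by
      simp only [Iso.trans_hom, Iso.symm_hom, Iso.app_inv, Iso.app_hom, Functor.mapIso_hom, Category.assoc]
      rw [← hw, Functor.map_comp, Functor.map_comp, Category.assoc]
      erw [← reassoc_of% h1, Iso.hom_inv_id_app_assoc]
    exact congrArg (fun k => k.hom s) h2
  have hinj := injective_homologyMap_proj M fs I
  refine ⟨fun a b hab => ?_, ?_⟩
  · obtain ⟨a, rfl⟩ := eA.surjective a
    obtain ⟨b, rfl⟩ := eA.surjective b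
    exact congrArg eA (hinj (eB.injective (((hψ a).symm.trans hab).trans (hψ b))))
  · haveI : Module.Finite A ((single0 M).X 0) :=
      Module.Finite.equiv (HomologicalComplex.singleObjXSelf (ComplexShape.up ℤ) 0 M).toLinearEquiv.symm
    let τ : M ≃ₗ[A] (single0 M).X 0 := σ ≪≫ₗ (clsEquiv M).symm
    ext y
    constructor
    · rintro ⟨a, rfl⟩
      obtain ⟨a, rfl⟩ := eA.surjective a
      have h3 : ψ a ∈ Set.range ψ := ⟨a, rfl⟩
      rw [range_homologyMap_proj M fs I] at h3
      obtain ⟨x, hx, hxa⟩ := h3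
      obtain ⟨s, rfl⟩ := τ.surjective x
      obtain ⟨J', h₁, h₂, h₃⟩ := (sat_iff I fs _).1 hx
      refine ⟨s, ⟨J', h₁, h₂, (mem_torsionSub_equiv τ J' s).1 h₃⟩, ?_⟩
      refine (hη s).trans (Eq.trans (congrArg eB ?_) (hψ a).symm)
      refine Eq.trans ?_ hxa
      simp [τ]
    · rintro ⟨s, ⟨J', h₁, h₂, h₃⟩, rfl⟩
      have h3 : HomologicalComplex.homologyMap (cι I (single0 M)) 0 (σ s) ∈ Set.range ψ := by
        rw [range_homologyMap_proj M fs I]
        exact ⟨τ s, (sat_iff I fs _).2 ⟨J', h₁, h₂, (mem_torsionSub_equiv τ J' s).2 h₃⟩, by simp [τ]⟩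
      obtain ⟨a, ha⟩ := h3
      exact ⟨eA a, (hψ a).trans ((congrArg eB ha).trans (hη s).symm)⟩

end Groth.Agent.RGCompl
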